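import Mathlib

/-!
# Lifting subgroups and their normalisers through sections
-/

set_option autoImplicit false

namespace CfsgLib.Known.AltTorus

open scoped Pointwise

/-- `G` has a section isomorphic to the alternating group of degree `b`. -/
def AltSect (G : Type*) [Group G] (b : ℕ) : Prop :=
  ∃ H : Subgroup G, ∃ π : ↥H →* alternatingGroup (Fin b), Function.Surjective π

theorem AltSect.of_quotient {G : Type*} [Group G] {b : ℕ} {H : Subgroup G} {K : Subgroup ↥H} [K.Normal]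
    (h : Nonempty (↥H ⧸ K ≃* ↥(alternatingGroup (Fin b)))) : AltSect G b := by
  obtain ⟨e⟩ := h
  exact ⟨H, e.toMonoidHom.comp (QuotientGroup.mk' K), e.surjective.comp (QuotientGroup.mk'_surjective K)⟩

theorem AltSect.map {G G' : Type*} [Group G] [Group G'] {b : ℕ} (h : AltSect G b) {f : G →* G'}
    (hf : Function.Injective f) : AltSect G' b := by
  obtain ⟨H, π, hπ⟩ := h
  exact ⟨H.map f, π.comp (H.equivMapOfInjective f hf).symm.toMonoidHom,
    hπ.comp (H.equivMapOfInjective f hf).symm.surjective⟩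

theorem AltSect.le {G : Type*} [Group G] {r b : ℕ} (h : AltSect G r) (hb : b ≤ r) : AltSect G b := by
  classical
  obtain ⟨H, π, hπ⟩ := h
  obtain ⟨ι, hι⟩ : ∃ ι : Fin b ↪ Fin r, ι = Fin.castLEEmb hb := ⟨_, rfl⟩
  obtain ⟨j, hj⟩ : ∃ j : alternatingGroup (Fin b) →* alternatingGroup (Fin r),
      ∀ g, ((j g : Equiv.Perm (Fin r))) = Equiv.Perm.viaEmbeddingHom ι g := by
    refine ⟨((Equiv.Perm.viaEmbeddingHom ι).comp (alternatingGroup (Fin b)).subtype).codRestrict _ fun g => ?_,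
      fun g => rfl⟩
    rw [Equiv.Perm.mem_alternatingGroup, MonoidHom.comp_apply, Equiv.Perm.viaEmbeddingHom_apply,
      Equiv.Perm.viaEmbedding]
    convert (Equiv.Perm.sign_extendDomain (g : Equiv.Perm (Fin b)) (Equiv.ofInjective ι.1 ι.2)).trans
      (Equiv.Perm.mem_alternatingGroup.1 g.2)
    rfl
  have hinj : Function.Injective j := fun g g' e =>
    Subtype.ext (Equiv.Perm.viaEmbeddingHom_injective ι (by rw [← hj, ← hj, e]))
  obtain ⟨eq, heq⟩ : ∃ eq : alternatingGroup (Fin b) ≃* j.range, ∀ g, (eq g : alternatingGroup (Fin r)) = j g :=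
    ⟨MonoidHom.ofInjective hinj, fun g => rfl⟩
  obtain ⟨E, hE⟩ : ∃ E, E = (j.range.comap π).equivMapOfInjective H.subtype H.subtype_injective := ⟨_, rfl⟩
  refine ⟨(j.range.comap π).map H.subtype,
    eq.symm.toMonoidHom.comp ((π.subgroupComap j.range).comp E.symm.toMonoidHom), fun a => ?_⟩
  obtain ⟨h, he⟩ := hπ (j a)
  refine ⟨E ⟨h, Subgroup.mem_comap.2 ⟨a, he.symm⟩⟩, ?_⟩
  simp only [MonoidHom.comp_apply, MulEquiv.coe_toMonoidHom, MulEquiv.symm_apply_apply]
  rw [MulEquiv.symm_apply_eq]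
  exact Subtype.ext (he.trans (heq a).symm)

/-- A prime power subgroup lifts together with its normaliser. -/
theorem exists_lift {H A : Type*} [Group H] [Group A] [Finite H] {π : H →* A} (hπ : Function.Surjective π)
    {l : ℕ} [Fact l.Prime] {P : Subgroup A} (hP : IsPGroup l P) :
    ∃ S : Subgroup H, IsPGroup l S ∧ S.map π = P ∧
      ∀ a ∈ Subgroup.normalizer (P : Set A), ∃ y ∈ Subgroup.normalizer (S : Set H), π y = a := by
  classical
  obtain ⟨M, hM⟩ : ∃ M, M = P.comap π := ⟨_, rfl⟩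
  have hMmem : ∀ x, x ∈ M ↔ π x ∈ P := fun x => by rw [hM, Subgroup.mem_comap]
  obtain ⟨S₀⟩ : Nonempty (Sylow l ↥M) := inferInstance
  obtain ⟨S, hS⟩ : ∃ S, S = (S₀ : Subgroup ↥M).map M.subtype := ⟨_, rfl⟩
  have hSM : S ≤ M := hS ▸ Subgroup.map_subtype_le _
  have hSl : IsPGroup l S := hS ▸ S₀.2.map _
  have hmap : S.map π = P := by
    obtain ⟨f, hf⟩ : ∃ f : ↥M →* ↥P, ∀ m, (f m : A) = π m :=
      ⟨(π.comp M.subtype).codRestrict P fun m => (hMmem _).1 m.2, fun m => rfl⟩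
    have hfs : Function.Surjective f := by
      rintro ⟨a, ha⟩
      obtain ⟨h, rfl⟩ := hπ a
      exact ⟨⟨h, (hMmem _).2 ha⟩, Subtype.ext (hf _)⟩
    have htop : ((S₀.mapSurjective hfs : Sylow l ↥P) : Subgroup ↥P) = ⊤ :=
      ((S₀.mapSurjective hfs).3 ((hP.to_subgroup ⊤)) le_top).symm
    rw [Sylow.coe_mapSurjective] at htop
    refine le_antisymm ?_ fun a ha => ?_
    · rintro _ ⟨s, hs, rfl⟩
      exact (hMmem _).1 (hSM hs)
    · have h1 : (⟨a, ha⟩ : ↥P) ∈ (S₀ : Subgroup ↥M).map f := htop ▸ Subgroup.mem_top _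
      obtain ⟨m, hm, e⟩ := h1
      exact ⟨m, hS ▸ ⟨m, hm, rfl⟩, by rw [← hf, e]⟩
  refine ⟨S, hSl, hmap, fun a ha => ?_⟩
  obtain ⟨y₀, hy₀⟩ := hπ a
  have hnorm : ∀ m ∈ M, y₀ * m * y₀⁻¹ ∈ M := fun m hm => by
    rw [hMmem] at hm ⊢
    rw [map_mul, map_mul, map_inv, hy₀]
    exact (Subgroup.mem_normalizer_iff.1 ha _).1 hm
  -- the conjugate Sylow subgroup
  obtain ⟨c, hc⟩ : ∃ c : ↥M →* ↥M, ∀ m : ↥M, (c m : H) = y₀ * m * y₀⁻¹ :=
    ⟨((MulAut.conj y₀).toMonoidHom.comp M.subtype).codRestrict M fun m => hnorm m m.2, fun m => rfl⟩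
  have hcinj : Function.Injective c := fun m m' e => by
    have := congrArg (fun z : ↥M => (z : H)) e
    simp only [hc, mul_left_inj, mul_right_inj] at this
    exact Subtype.ext this
  have hcsurj : Function.Surjective c := (Finite.injective_iff_surjective.1 hcinj)
  obtain ⟨g, hg⟩ := MulAction.exists_smul_eq ↥M (S₀.mapSurjective hcsurj) S₀
  have hle : ∀ s ∈ S, ((g : H) * y₀) * s * ((g : H) * y₀)⁻¹ ∈ S := by
    intro s hs
    rw [hS] at hs ⊢
    obtain ⟨s, hs, rfl⟩ := hs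
    refine ⟨g * c s * g⁻¹, ?_, ?_⟩
    · have h1 : MulAut.conj g • c s ∈ MulAut.conj g • ((S₀.mapSurjective hcsurj : Sylow l ↥M) : Subgroup ↥M) :=
        Subgroup.smul_mem_pointwise_smul _ _ _ (by rw [Sylow.coe_mapSurjective]; exact ⟨s, hs, rfl⟩)
      rw [← Sylow.coe_subgroup_smul, hg] at h1
      exact h1
    · simp [hc, mul_assoc]
  obtain ⟨y, hy⟩ : ∃ y, y = (g : H) * y₀ := ⟨_, rfl⟩
  have hy' : y ∈ Subgroup.normalizer (S : Set H) := by
    haveI : Finite (S : Set H) := inferInstance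
    exact Subgroup.mem_normalizer_fintype fun s hs => hy ▸ hle s hs
  obtain ⟨s, hs, hse⟩ : π g ∈ S.map π := by
    rw [hmap]
    exact (hMmem _).1 g.2
  refine ⟨s⁻¹ * y, mul_mem (Subgroup.le_normalizer (inv_mem hs)) hy', ?_⟩
  rw [map_mul, map_inv, hse, hy, map_mul, hy₀, inv_mul_cancel_left]

/-- A prime power subgroup is conjugate into a subgroup of coprime index. -/
theorem exists_conj_into {Γ : Type*} [Group Γ] [Finite Γ] {l : ℕ} [Fact l.Prime] {T : Subgroup Γ}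
    (hT : ¬ l ∣ T.index) {S : Subgroup Γ} (hS : IsPGroup l S) : ∃ g : Γ, ∀ s ∈ S, g * s * g⁻¹ ∈ T := by
  obtain ⟨T₀⟩ : Nonempty (Sylow l ↥T) := inferInstance
  have hidx : ¬ l ∣ ((T₀ : Subgroup ↥T).map T.subtype).index := by
    rw [Subgroup.index_map_subtype]
    exact fun h => ((Fact.out : l.Prime).dvd_mul.1 h).elim T₀.not_dvd_index hT
  obtain ⟨S₁, hS₁⟩ := hS.exists_le_sylow
  obtain ⟨g, hg⟩ := MulAction.exists_smul_eq Γ S₁ ((T₀.2.map T.subtype).toSylow hidx)
  refine ⟨g, fun s hs => ?_⟩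
  have h1 : MulAut.conj g • s ∈ MulAut.conj g • (S₁ : Subgroup Γ) :=
    Subgroup.smul_mem_pointwise_smul _ _ _ (hS₁ hs)
  rw [← Sylow.coe_subgroup_smul, hg, IsPGroup.toSylow_coe] at h1
  exact Subgroup.map_subtype_le _ h1

/-- Two commuting prime power subgroups are conjugate together into an abelian subgroup of coprime index. -/
theorem exists_conj_into_two {Γ : Type*} [Group Γ] [Finite Γ] {l l' : ℕ} [Fact l.Prime] [Fact l'.Prime]
    {T : Subgroup Γ} (hT : ¬ l ∣ T.index) (hT' : ¬ l' ∣ T.index) (hab : ∀ a ∈ T, ∀ b ∈ T, a * b = b * a)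
    {S S' : Subgroup Γ} (hS : IsPGroup l S) (hS' : IsPGroup l' S') (hc : ∀ s ∈ S, ∀ s' ∈ S', s * s' = s' * s) :
    ∃ g : Γ, (∀ s ∈ S, g * s * g⁻¹ ∈ T) ∧ ∀ s' ∈ S', g * s' * g⁻¹ ∈ T := by
  obtain ⟨g₁, hg₁⟩ := exists_conj_into hT hS
  obtain ⟨C, hC⟩ : ∃ C, C = Subgroup.centralizer ((S.map (MulAut.conj g₁).toMonoidHom : Subgroup Γ) : Set Γ) := ⟨_, rfl⟩
  have hTC : T ≤ C := fun t ht => by
    rw [hC, Subgroup.mem_centralizer_iff]
    rintro _ ⟨s, hs, rfl⟩
    exact hab _ (hg₁ s hs) _ ht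
  have hS'C : S'.map (MulAut.conj g₁).toMonoidHom ≤ C := by
    rintro _ ⟨s', hs', rfl⟩
    rw [hC, Subgroup.mem_centralizer_iff]
    rintro _ ⟨s, hs, rfl⟩
    rw [← map_mul, ← map_mul, hc s hs s' hs']
  have hidx : ¬ l' ∣ (T.subgroupOf C).index := fun h =>
    hT' (h.trans (Subgroup.relIndex_dvd_index_of_le hTC))
  obtain ⟨c, hc'⟩ := exists_conj_into hidx
    ((hS'.map (MulAut.conj g₁).toMonoidHom).comap_of_injective C.subtype C.subtype_injective)
  refine ⟨(c : Γ) * g₁, fun s hs => ?_, fun s' hs' => ?_⟩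
  · have h2 := Subgroup.mem_centralizer_iff.1 ((SetLike.ext_iff.1 hC _).1 c.2)
    have h3 := h2 _ ⟨s, hs, rfl⟩
    have e : (c : Γ) * g₁ * s * ((c : Γ) * g₁)⁻¹ = g₁ * s * g₁⁻¹ := by
      rw [MulEquiv.coe_toMonoidHom, MulAut.conj_apply] at h3
      calc _ = (c : Γ) * (g₁ * s * g₁⁻¹) * (c : Γ)⁻¹ := by group
        _ = _ := by rw [← h3]; group
    exact e ▸ hg₁ s hs
  · have h1 : (MulAut.conj g₁) s' ∈ S'.map (MulAut.conj g₁).toMonoidHom := ⟨s', hs', rfl⟩
    have h2 := hc' ⟨_, hS'C h1⟩ (by rw [Subgroup.mem_comap]; exact h1)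
    rw [Subgroup.mem_subgroupOf] at h2
    simpa [mul_assoc] using h2

theorem card_ker_square {X : Type*} [CommGroup X] [Finite X] :
    Nat.card (powMonoidHom 2 : X →* X).ker = (powMonoidHom 2 : X →* X).range.index := by
  have h1 := (powMonoidHom 2 : X →* X).range.card_mul_index
  have h2 : Nat.card (powMonoidHom 2 : X →* X).ker * (powMonoidHom 2 : X →* X).ker.index = Nat.card X :=
    Subgroup.card_mul_index _
  rw [Subgroup.index_ker] at h2
  exact Nat.eq_of_mul_eq_mul_right Nat.card_pos (h2.trans (h1.symm.trans (mul_comm _ _)))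

/-- In an abelian group generated by two elements there are few solutions of `x * x = 1`: the count
does not grow in quotients. -/
theorem card_two_torsion_le {A B : Type*} [CommGroup A] [CommGroup B] [Finite A] (f : A →* B)
    (hf : Function.Surjective f) :
    Nat.card (powMonoidHom 2 : B →* B).ker ≤ Nat.card (powMonoidHom 2 : A →* A).ker := by
  haveI : Finite B := Finite.of_surjective f hf
  rw [card_ker_square, card_ker_square]
  refine Nat.le_of_dvd (Nat.pos_of_ne_zero Subgroup.index_ne_zero_of_finite) ?_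
  have h : (powMonoidHom 2 : A →* A).range.map f = (powMonoidHom 2 : B →* B).range := by
    refine le_antisymm ?_ ?_
    · rintro _ ⟨_, ⟨a, rfl⟩, rfl⟩
      exact ⟨f a, by simp⟩
    · rintro _ ⟨b, rfl⟩
      obtain ⟨a, rfl⟩ := hf b
      exact ⟨_, ⟨a, rfl⟩, by simp⟩
  rw [← h]
  exact Subgroup.index_map_dvd _ hf

end CfsgLib.Known.AltTorus
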