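import Mathlib

/-!
# Elements of small alternating groups with prescribed normalisers
-/

set_option autoImplicit false
set_option maxRecDepth 10000

namespace CfsgLib.Known.AltTorus

open Equiv

/-- a five cycle of `A₇` with an element inducing an automorphism of order four on it -/
theorem alt7_five : ∃ x a : alternatingGroup (Fin 7), x ^ 5 = 1 ∧ x ≠ 1 ∧ a * x * a⁻¹ = x ^ 2 := by
  refine ⟨⟨⟨![1, 2, 3, 4, 0, 5, 6], ![4, 0, 1, 2, 3, 5, 6], by decide, by decide⟩,
      Perm.mem_alternatingGroup.2 (by decide +kernel)⟩,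
    ⟨⟨![0, 2, 4, 1, 3, 6, 5], ![0, 3, 1, 4, 2, 6, 5], by decide, by decide⟩,
      Perm.mem_alternatingGroup.2 (by decide +kernel)⟩, ?_, ?_, ?_⟩ <;> decide +kernel

/-- a seven cycle of `A₇` with an element inducing an automorphism of order three on it -/
theorem alt7_seven : ∃ x a : alternatingGroup (Fin 7), x ^ 7 = 1 ∧ x ≠ 1 ∧ a * x * a⁻¹ = x ^ 2 := by
  refine ⟨⟨⟨![1, 2, 3, 4, 5, 6, 0], ![6, 0, 1, 2, 3, 4, 5], by decide, by decide⟩,
      Perm.mem_alternatingGroup.2 (by decide +kernel)⟩,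
    ⟨⟨![0, 2, 4, 6, 1, 3, 5], ![0, 4, 1, 5, 2, 6, 3], by decide, by decide⟩,
      Perm.mem_alternatingGroup.2 (by decide +kernel)⟩, ?_, ?_, ?_⟩ <;> decide +kernel

/-- an eleven cycle of `A₁₁` with an element inducing an automorphism of order five on it -/
theorem alt11_eleven : ∃ x a : alternatingGroup (Fin 11), x ^ 11 = 1 ∧ x ≠ 1 ∧ a * x * a⁻¹ = x ^ 3 := by
  refine ⟨⟨⟨![1, 2, 3, 4, 5, 6, 7, 8, 9, 10, 0], ![10, 0, 1, 2, 3, 4, 5, 6, 7, 8, 9], by decide, by decide⟩,
      Perm.mem_alternatingGroup.2 (by decide +kernel)⟩,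
    ⟨⟨![0, 3, 6, 9, 1, 4, 7, 10, 2, 5, 8], ![0, 4, 8, 1, 5, 9, 2, 6, 10, 3, 7], by decide, by decide⟩,
      Perm.mem_alternatingGroup.2 (by decide +kernel)⟩, ?_, ?_, ?_⟩ <;> decide +kernel

/-- a five cycle and a seven cycle of `A₁₂` with an element inducing full automorphisms on both -/
theorem alt12_five_seven : ∃ x x' a : alternatingGroup (Fin 12), x ^ 5 = 1 ∧ x ≠ 1 ∧ x' ^ 7 = 1 ∧ x' ≠ 1 ∧
    x * x' = x' * x ∧ a * x * a⁻¹ = x ^ 2 ∧ a * x' * a⁻¹ = x' ^ 3 := by
  refine ⟨⟨⟨![1, 2, 3, 4, 0, 5, 6, 7, 8, 9, 10, 11], ![4, 0, 1, 2, 3, 5, 6, 7, 8, 9, 10, 11], by decide, by decide⟩,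
      Perm.mem_alternatingGroup.2 (by decide +kernel)⟩,
    ⟨⟨![0, 1, 2, 3, 4, 6, 7, 8, 9, 10, 11, 5], ![0, 1, 2, 3, 4, 11, 5, 6, 7, 8, 9, 10], by decide, by decide⟩,
      Perm.mem_alternatingGroup.2 (by decide +kernel)⟩,
    ⟨⟨![0, 2, 4, 1, 3, 5, 8, 11, 7, 10, 6, 9], ![0, 3, 1, 4, 2, 5, 10, 8, 6, 11, 9, 7], by decide, by decide⟩,
      Perm.mem_alternatingGroup.2 (by decide +kernel)⟩, ?_, ?_, ?_, ?_, ?_, ?_, ?_⟩ <;> decide +kernel

/-- breadth first closure of a list under left multiplication -/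
def genClosure {G : Type*} [Mul G] [DecidableEq G] (gens : List G) : ℕ → List G → List G → List G
  | 0, seen, _ => seen
  | n + 1, seen, front =>
    let r := front.foldl (fun acc x => gens.foldl (fun acc g =>
      if acc.1.contains (g * x) then acc else (g * x :: acc.1, g * x :: acc.2)) acc) (seen, [])
    genClosure gens n r.1 r.2

/-- first generator -/
def g₁ : alternatingGroup (Fin 8) := ⟨⟨![1, 2, 3, 0, 6, 5, 4, 7], ![3, 0, 1, 2, 6, 5, 4, 7], by decide, by decide⟩,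
  Perm.mem_alternatingGroup.2 (by decide +kernel)⟩

/-- second generator -/
def g₂ : alternatingGroup (Fin 8) := ⟨⟨![2, 1, 0, 3, 5, 6, 7, 4], ![2, 1, 0, 3, 7, 4, 5, 6], by decide, by decide⟩,
  Perm.mem_alternatingGroup.2 (by decide +kernel)⟩

/-- third generator -/
def g₃ : alternatingGroup (Fin 8) := ⟨⟨![4, 5, 6, 7, 1, 0, 3, 2], ![5, 4, 7, 6, 0, 1, 2, 3], by decide, by decide⟩,
  Perm.mem_alternatingGroup.2 (by decide +kernel)⟩

/-- the generators with their inverses -/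
def sqGens : List (alternatingGroup (Fin 8)) := [g₁, g₂, g₃, g₁⁻¹, g₂⁻¹, g₃⁻¹]

/-- the elements of the generated group -/
def sqList : List (alternatingGroup (Fin 8)) := genClosure sqGens 9 [1] [1]

/-- closure and exponent check -/
def chkSqList (L : List (alternatingGroup (Fin 8))) : Bool :=
  L.contains 1 && (L.all fun x => (sqGens.all fun g => L.contains (g * x)) && decide (x ^ 8 = 1))

theorem sqList_ok : chkSqList sqList = true := by decide +kernel

/-- products of the squares of the generators -/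
def sqProd (z : Bool × Bool × Bool) : alternatingGroup (Fin 8) :=
  (if z.1 then g₁ ^ 2 else 1) * ((if z.2.1 then g₂ ^ 2 else 1) * (if z.2.2 then g₃ ^ 2 else 1))

theorem sqProd_ok : (∀ z, sqProd z ^ (2 : ℕ) = 1) ∧ (∀ z z', sqProd z = sqProd z' → z = z') := by decide +kernel

/-- a `2`-subgroup of `A₈` with an elementary abelian group of order eight generated by squares -/
theorem alt8_squares : ∃ (P : Subgroup (alternatingGroup (Fin 8))) (p₁ p₂ p₃ : alternatingGroup (Fin 8)),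
    IsPGroup 2 P ∧ p₁ ∈ P ∧ p₂ ∈ P ∧ p₃ ∈ P ∧ 4 < Nat.card {z : alternatingGroup (Fin 8) //
      z ∈ Subgroup.closure {p₁ ^ 2, p₂ ^ 2, p₃ ^ 2} ∧ z ^ (2 : ℕ) = 1} := by
  have hclosed := sqList_ok
  generalize sqList = L at hclosed
  rw [chkSqList, Bool.and_eq_true, List.all_eq_true, List.contains_iff_mem] at hclosed
  obtain ⟨h0, h⟩ := hclosed
  have h1 : ∀ x ∈ L, ∀ g ∈ sqGens, g * x ∈ L := fun x hx g hg =>
    List.contains_iff_mem.1 (List.all_eq_true.1 (Bool.and_eq_true_iff.1 (h x hx)).1 g hg)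
  have h2 : ∀ x ∈ L, x ^ 8 = 1 := fun x hx => of_decide_eq_true (Bool.and_eq_true_iff.1 (h x hx)).2
  refine ⟨Subgroup.closure {g₁, g₂, g₃}, g₁, g₂, g₃, ?_, Subgroup.subset_closure (by simp),
    Subgroup.subset_closure (by simp), Subgroup.subset_closure (by simp), ?_⟩
  · have hin : ∀ x ∈ Subgroup.closure ({g₁, g₂, g₃} : Set (alternatingGroup (Fin 8))), x ∈ L := by
      intro x hx
      induction hx using Subgroup.closure_induction_left with
      | one => exact h0
      | mul_left g hg y _ ih =>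
        rcases hg with rfl | rfl | rfl <;> exact h1 y ih _ (by simp [sqGens])
      | inv_mul_cancel g hg y _ ih =>
        rcases hg with rfl | rfl | rfl <;> exact h1 y ih _ (by simp [sqGens])
    rintro ⟨x, hx⟩
    exact ⟨3, Subtype.ext (h2 x (hin x hx))⟩
  · have hmem : ∀ z, sqProd z ∈ Subgroup.closure ({g₁ ^ 2, g₂ ^ 2, g₃ ^ 2} : Set (alternatingGroup (Fin 8))) := by
      intro z
      rw [sqProd]
      refine mul_mem ?_ (mul_mem ?_ ?_)
      all_goals first
        | (split <;> [exact Subgroup.subset_closure (by simp); exact one_mem _])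
    have := Nat.card_le_card_of_injective (fun z => (⟨sqProd z, hmem z, sqProd_ok.1 z⟩ :
      {z : alternatingGroup (Fin 8) // z ∈ Subgroup.closure {g₁ ^ 2, g₂ ^ 2, g₃ ^ 2} ∧ z ^ (2 : ℕ) = 1}))
      fun z z' h => sqProd_ok.2 z z' (congrArg Subtype.val h)
    simp only [Nat.card_eq_fintype_card (α := Bool × Bool × Bool), Fintype.card_prod, Fintype.card_bool] at this
    omega

end CfsgLib.Known.AltTorus
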