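import Cfsg.Agent.Lib.Known.AltTorus.Exponent
import Cfsg.Agent.Lib.Known.AltTorus.AltData
import Cfsg.Agent.Lib.Known.ChevFixed
import Cfsg.Agent.Lib.Lie.Rel.OrderData

/-!
# Counting in finite groups of Lie type
-/

set_option autoImplicit false
set_option maxRecDepth 10000

namespace CfsgLib.Known.AltTorus

open Cfsg.Lie (ChevalleyDatum chevG2 chevF4 chevD4 twistedD4 twistedF4)
open CfsgLib.Lie.Chev
open CfsgLib.Lie.Chev.TwGroups

/-! ### general counting -/

theorem card_inf_mul_index {G : Type*} [Group G] (T Γ : Subgroup G) :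
    Nat.card ↥(Γ ⊓ T) * (T.subgroupOf Γ).index = Nat.card ↥Γ := by
  rw [← Subgroup.inf_subgroupOf_left T Γ,
    ← Nat.card_congr (Subgroup.subgroupOfEquivOfLe (inf_le_left : Γ ⊓ T ≤ Γ)).toEquiv]
  exact Subgroup.card_mul_index _

theorem altSect_top {G : Type*} [Group G] {b : ℕ} (h : AltSect G b) : AltSect ↥(⊤ : Subgroup G) b :=
  h.map (f := (Subgroup.topEquiv : ↥(⊤ : Subgroup G) ≃* G).symm.toMonoidHom)
    (Subgroup.topEquiv : ↥(⊤ : Subgroup G) ≃* G).symm.injective

theorem index_subgroupOf_top {G : Type*} [Group G] (T : Subgroup G) :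
    (T.subgroupOf (⊤ : Subgroup G)).index = T.index := by
  rw [← Subgroup.relIndex, Subgroup.relIndex_top_right]

/-- an extension of degree `d` of a finite field -/
theorem exists_ext (F : Type*) [Field F] [Fintype F] (d : ℕ) [NeZero d] :
    ∃ (L : Type) (_ : Field L) (_ : Fintype L) (_ : F →+* L), Fintype.card L = Fintype.card F ^ d := by
  obtain ⟨p, hc⟩ := CharP.exists F
  obtain ⟨a, hp, hq⟩ := FiniteField.card F p
  haveI : Fact p.Prime := ⟨hp⟩
  haveI : NeZero ((a : ℕ) * d) := ⟨Nat.mul_ne_zero a.pos.ne' (NeZero.ne d)⟩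
  let L := GaloisField p ((a : ℕ) * d)
  haveI : Fintype L := Fintype.ofFinite L
  letI : Algebra (ZMod p) F := ZMod.algebra F p
  have hfin : Module.finrank (ZMod p) F = a := by
    have h := Module.card_eq_pow_finrank (K := ZMod p) (V := F)
    rw [hq, ZMod.card] at h
    exact (Nat.pow_right_injective hp.two_le h).symm
  have hdvd : Module.finrank (ZMod p) F ∣ Module.finrank (ZMod p) L := by
    rw [hfin, GaloisField.finrank p (NeZero.ne _)]; exact dvd_mul_right _ _
  obtain ⟨j⟩ := FiniteField.nonempty_algHom_of_finrank_dvd hdvd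
  exact ⟨L, inferInstance, inferInstance, j.toRingHom, by
    rw [hq, ← Nat.card_eq_fintype_card, GaloisField.card p _ (NeZero.ne _), pow_mul]⟩

theorem dvd_pow_sub_one_of_char {F : Type*} [Field F] [Fintype F] {p l d : ℕ} [Fact p.Prime] [CharP F p]
    (hl : l.Prime) (hne : p ≠ l) (hd : l - 1 ∣ d) : l ∣ Fintype.card F ^ d - 1 := by
  obtain ⟨a, -, hq⟩ := FiniteField.card F p
  haveI : Fact l.Prime := ⟨hl⟩
  obtain ⟨k, rfl⟩ := hd
  have hne' : (Fintype.card F : ZMod l) ≠ 0 := by
    rw [Ne, ZMod.natCast_eq_zero_iff, hq]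
    exact fun h => hne ((Nat.prime_dvd_prime_iff_eq hl (Fact.out : p.Prime)).1 (hl.dvd_of_dvd_pow h)).symm
  rw [← ZMod.natCast_eq_zero_iff, Nat.cast_sub (Nat.one_le_pow _ _ Fintype.card_pos), Nat.cast_pow, pow_mul,
    ZMod.pow_card_sub_one_eq_one hne', one_pow, Nat.cast_one, sub_self]

end CfsgLib.Known.AltTorus
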