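import Cfsg.Agent.Lib.Known.AltTorus.Action

/-!
# Sections ruled out by the action of the Weyl group on tori
-/

set_option autoImplicit false

namespace CfsgLib.Known.AltTorus

open Cfsg.Lie (ChevalleyDatum)
open CfsgLib.Lie.Chev

variable {D : ChevalleyDatum} {X : Aux} (C : Cert D X) {K : Type*} [Field K] [Fintype K]

/-- An element normalising `S` multiplies a subgroup without an eigenvalue onto itself. -/
theorem exists_commutator_eq {H : Type*} [Group H] [Finite H] {ψ : H →* ↥(D.group K)} (hψ : Function.Injective ψ)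
    {l c : ℕ} [Fact l.Prime] {S : Subgroup H} (hS : IsPGroup l S) (hST : ∀ s ∈ S, ψ s ∈ (chevRel C K).HS) {y : H}
    (hy : y ∈ Subgroup.normalizer (S : Set H)) {b u : ↥(D.group K)} {n : (chevRel C K).NS}
    (hb : b ∈ (chevRel C K).BS) (hu : u ∈ (chevRel C K).US (invSet ((chevRel C K).nsPerm n)))
    (e : ψ y = b * n * u) (hno : NoEigen D X l c (key (chevRel C K) ((chevRel C K).nsPerm n))) {s : H} (hs : s ∈ S) :
    ∃ t ∈ S, s = y * t * y⁻¹ * (t ^ c)⁻¹ := by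
  have hyS : ∀ t ∈ S, y * t * y⁻¹ ∈ S := fun t ht => (Subgroup.mem_normalizer_iff.1 hy t).1 ht
  have hcomm : ∀ t ∈ S, ∀ t' ∈ S, t * t' = t' * t := fun t ht t' ht' => hψ (by
    rw [map_mul, map_mul]; exact (chevRel C K).HS_isMulCommutative (hST t ht) (hST t' ht'))
  obtain ⟨f, hf⟩ : ∃ f : ↥S → ↥S, ∀ t : ↥S, (f t : H) = y * t * y⁻¹ * ((t : H) ^ c)⁻¹ :=
    ⟨fun t => ⟨_, mul_mem (hyS t t.2) (inv_mem (pow_mem t.2 c))⟩, fun _ => rfl⟩
  have hinj : Function.Injective f := by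
    intro t t' h
    have h1 : y * t * y⁻¹ * ((t : H) ^ c)⁻¹ = y * t' * y⁻¹ * ((t' : H) ^ c)⁻¹ := by rw [← hf, ← hf, h]
    obtain ⟨w, hw⟩ : ∃ w, w = (t' : H)⁻¹ * t := ⟨_, rfl⟩
    have hwS : w ∈ S := hw ▸ mul_mem (inv_mem t'.2) t.2
    have hwc : y * w * y⁻¹ = w ^ c := by
      rw [hw, (show Commute (t' : H)⁻¹ t from hcomm _ (inv_mem t'.2) _ t.2).mul_pow, inv_pow]
      have hc1 := hcomm _ (hyS t t.2) _ (inv_mem (hyS t' t'.2))
      calc y * ((t' : H)⁻¹ * t) * y⁻¹ = (y * t' * y⁻¹)⁻¹ * (y * t * y⁻¹) := by group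
        _ = (y * t' * y⁻¹)⁻¹ * ((y * t * y⁻¹ * ((t : H) ^ c)⁻¹) * (t : H) ^ c) := by group
        _ = ((t' : H) ^ c)⁻¹ * (t : H) ^ c := by rw [h1]; group
    obtain ⟨k, hk⟩ := hS ⟨w, hwS⟩
    have hkw : w ^ l ^ k = 1 := by simpa [Subtype.ext_iff] using hk
    have h2 : ψ y * ψ w * (ψ y)⁻¹ = ψ (y * w * y⁻¹) := by rw [map_mul, map_mul, map_inv]
    have hn : (n : ↥(D.group K)) * ψ w * (n : ↥(D.group K))⁻¹ = ψ w ^ c := by
      rw [conj_eq_of_bnu _ hb hu e (hST w hwS) (h2 ▸ hST _ (hyS w hwS)), h2, hwc, map_pow]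
    have h3 := eq_one_of_conj_eq_pow C K (hST w hwS) n (Fact.out : l.Prime) hn hno
      (by rw [← map_pow, hkw, map_one])
    have h4 : w = 1 := hψ (h3.trans (map_one ψ).symm)
    exact Subtype.ext (inv_mul_eq_one.1 (hw ▸ h4)).symm
  obtain ⟨t, ht⟩ := (Finite.injective_iff_surjective.1 hinj) ⟨s, hs⟩
  exact ⟨t, t.2, by rw [← hf, ht]⟩

theorem mem_normalizer_zpowers {A : Type*} [Group A] [Finite A] {a x : A} {c : ℕ} (h : a * x * a⁻¹ = x ^ c) :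
    a ∈ Subgroup.normalizer ((Subgroup.zpowers x : Subgroup A) : Set A) := by
  refine Subgroup.mem_normalizer_fintype ?_
  rintro z ⟨k, rfl⟩
  refine ⟨(c : ℤ) * k, ?_⟩
  show x ^ ((c : ℤ) * k) = a * x ^ k * a⁻¹
  rw [← conj_zpow, h, zpow_mul, zpow_natCast]

theorem isPGroup_zpowers {A : Type*} [Group A] {x : A} {l : ℕ} (h : x ^ l = 1) :
    IsPGroup l (Subgroup.zpowers x) := by
  rintro ⟨z, k, rfl⟩
  refine ⟨1, Subtype.ext ?_⟩
  show (x ^ k) ^ (l ^ 1) = 1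
  rw [pow_one, ← zpow_natCast, ← zpow_mul, mul_comm, zpow_mul, zpow_natCast, h, one_zpow]

/-- An element of prime order `l` inverted up to the multiplier `c` gives no section when no Weyl group element
has that eigenvalue modulo `l`. -/
theorem not_altSect_one {Γ : Subgroup ↥(D.group K)} {keys : List (List ℕ)} (hΓ : Bnu (chevRel C K) Γ keys)
    {l c b : ℕ} [Fact l.Prime] (hidx : ¬ l ∣ ((chevRel C K).HS.subgroupOf Γ).index)
    (hno : ∀ L ∈ keys, NoEigen D X l c L) (x a : alternatingGroup (Fin b)) (hx : x ^ l = 1) (hx1 : x ≠ 1)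
    (hax : a * x * a⁻¹ = x ^ c) : ¬ AltSect ↥Γ b := by
  rintro ⟨H, π, hπ⟩
  haveI : Finite ↥(D.group K) := (chevRel C K).Finite_of_field
  obtain ⟨S, hS, hmap, hlift⟩ := exists_lift hπ (isPGroup_zpowers hx)
  obtain ⟨y, hy, hya⟩ := hlift a (mem_normalizer_zpowers hax)
  obtain ⟨g, hg⟩ := exists_conj_into hidx (hS.map H.subtype)
  obtain ⟨ψ, hψ⟩ : ∃ ψ : ↥H →* ↥(D.group K), ψ = Γ.subtype.comp ((MulAut.conj g).toMonoidHom.comp H.subtype) :=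
    ⟨_, rfl⟩
  have hψi : Function.Injective ψ := by
    rw [hψ]
    exact Γ.subtype_injective.comp ((MulAut.conj g).injective.comp H.subtype_injective)
  have hST : ∀ s ∈ S, ψ s ∈ (chevRel C K).HS := fun s hs => by
    rw [hψ]; exact Subgroup.mem_subgroupOf.1 (hg _ ⟨s, hs, rfl⟩)
  have hyΓ : ψ y ∈ Γ := by rw [hψ]; exact SetLike.coe_mem _
  obtain ⟨b', hb, n, u, hu, e, hkey⟩ := hΓ _ hyΓ
  have hxS : x ∈ S.map π := hmap ▸ Subgroup.mem_zpowers x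
  obtain ⟨s, hs, rfl⟩ := hxS
  obtain ⟨t, ht, hst⟩ := exists_commutator_eq C hψi hS hST hy hb hu e (hno _ hkey) hs
  obtain ⟨k, hk⟩ : π t ∈ Subgroup.zpowers (π s) := hmap ▸ ⟨t, ht, rfl⟩
  apply hx1
  have hk' : π s ^ k = π t := hk
  rw [hst, map_mul, map_mul, map_mul, map_inv, map_inv, map_pow, hya, ← hk', ← conj_zpow, hax, mul_inv_eq_one,
    ← zpow_natCast, ← zpow_natCast, ← zpow_mul, ← zpow_mul, mul_comm]

/-- Two commuting elements of distinct prime orders `l`, `l'` with a common normalising element. -/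
theorem not_altSect_two {Γ : Subgroup ↥(D.group K)} {keys : List (List ℕ)} (hΓ : Bnu (chevRel C K) Γ keys)
    {l l' c c' b : ℕ} [Fact l.Prime] [Fact l'.Prime]
    (hidx : ¬ l ∣ ((chevRel C K).HS.subgroupOf Γ).index) (hidx' : ¬ l' ∣ ((chevRel C K).HS.subgroupOf Γ).index)
    (hW : ¬ l' ∣ Nat.card (chevRel C K).WQ)
    (hno : ∀ L ∈ keys, NoEigen D X l c L ∨ NoEigen D X l' c' L) (x x' a : alternatingGroup (Fin b))
    (hx : x ^ l = 1) (hx1 : x ≠ 1) (hx' : x' ^ l' = 1) (hx1' : x' ≠ 1) (hxx : x * x' = x' * x)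
    (hax : a * x * a⁻¹ = x ^ c) (hax' : a * x' * a⁻¹ = x' ^ c') : ¬ AltSect ↥Γ b := by
  rintro ⟨H, π, hπ⟩
  haveI : Finite ↥(D.group K) := (chevRel C K).Finite_of_field
  obtain ⟨S, hS, hmap, hlift⟩ := exists_lift hπ (isPGroup_zpowers hx)
  obtain ⟨N, hN⟩ : ∃ N : Subgroup (alternatingGroup (Fin b)),
      N = Subgroup.normalizer ((Subgroup.zpowers x : Subgroup (alternatingGroup (Fin b))) : Set _) := ⟨_, rfl⟩
  obtain ⟨M, hM⟩ : ∃ M : Subgroup ↥H, M = Subgroup.normalizer (S : Set ↥H) ⊓ N.comap π := ⟨_, rfl⟩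
  obtain ⟨π₀, hπ₀⟩ : ∃ π₀ : ↥M →* ↥N, ∀ m, (π₀ m : alternatingGroup (Fin b)) = π m :=
    ⟨(π.comp M.subtype).codRestrict N fun m =>
      Subgroup.mem_comap.1 (Subgroup.mem_inf.1 ((SetLike.ext_iff.1 hM _).1 m.2)).2, fun _ => rfl⟩
  have hπ₀s : Function.Surjective π₀ := by
    rintro ⟨z, hz⟩
    obtain ⟨y, hy, hya⟩ := hlift z (hN ▸ hz)
    exact ⟨⟨y, (SetLike.ext_iff.1 hM _).2 (Subgroup.mem_inf.2 ⟨hy, Subgroup.mem_comap.2 (hya.symm ▸ hz)⟩)⟩,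
      Subtype.ext ((hπ₀ _).trans hya)⟩
  have hx'N : x' ∈ N := hN ▸ mem_normalizer_zpowers (c := 1) (by rw [pow_one, ← hxx, mul_inv_cancel_right])
  have haN : a ∈ N := hN ▸ mem_normalizer_zpowers hax
  obtain ⟨S', hS', hmap', hlift'⟩ := exists_lift hπ₀s
    (isPGroup_zpowers (x := (⟨x', hx'N⟩ : ↥N)) (Subtype.ext (by simpa using hx')))
  obtain ⟨y₀, hy₀, hya₀⟩ := hlift' ⟨a, haN⟩
    (mem_normalizer_zpowers (c := c') (Subtype.ext (by simpa using hax')))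
  obtain ⟨T', hT'⟩ : ∃ T', T' = S'.map M.subtype := ⟨_, rfl⟩
  have hT'p : IsPGroup l' T' := hT' ▸ hS'.map _
  have hT'N : ∀ t ∈ T', t ∈ Subgroup.normalizer (S : Set ↥H) := by
    rw [hT']
    rintro _ ⟨t, -, rfl⟩
    exact (Subgroup.mem_inf.1 ((SetLike.ext_iff.1 hM _).1 t.2)).1
  -- `T'` centralises `S`
  have hcomm : ∀ s ∈ S, ∀ t ∈ T', s * t = t * s := by
    intro s hs t ht
    obtain ⟨g, hg⟩ := exists_conj_into hidx (hS.map H.subtype)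
    obtain ⟨ψ, hψ⟩ : ∃ ψ : ↥H →* ↥(D.group K), ψ = Γ.subtype.comp ((MulAut.conj g).toMonoidHom.comp H.subtype) :=
      ⟨_, rfl⟩
    have hψi : Function.Injective ψ := by
      rw [hψ]
      exact Γ.subtype_injective.comp ((MulAut.conj g).injective.comp H.subtype_injective)
    have hST : ∀ s ∈ S, ψ s ∈ (chevRel C K).HS := fun s hs => by
      rw [hψ]; exact Subgroup.mem_subgroupOf.1 (hg _ ⟨s, hs, rfl⟩)
    obtain ⟨b', hb, n, u, hu, e, -⟩ := hΓ (ψ t) (by rw [hψ]; exact SetLike.coe_mem _)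
    have hit : ∀ i : ℕ, ((n : ↥(D.group K)) ^ i) * ψ s * ((n : ↥(D.group K)) ^ i)⁻¹ = ψ (t ^ i * s * (t ^ i)⁻¹) ∧
        t ^ i * s * (t ^ i)⁻¹ ∈ S := by
      intro i
      induction i with
      | zero => simp [hs]
      | succ i ih =>
        have h1 : t * (t ^ i * s * (t ^ i)⁻¹) * t⁻¹ ∈ S :=
          (Subgroup.mem_normalizer_iff.1 (hT'N t ht) _).1 ih.2
        have h2 : ψ t * ψ (t ^ i * s * (t ^ i)⁻¹) * (ψ t)⁻¹ = ψ (t * (t ^ i * s * (t ^ i)⁻¹) * t⁻¹) := by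
          simp only [map_mul, map_inv]
        have h3 : t * (t ^ i * s * (t ^ i)⁻¹) * t⁻¹ = t ^ (i + 1) * s * (t ^ (i + 1))⁻¹ := by
          rw [pow_succ']; group
        refine ⟨?_, h3 ▸ h1⟩
        rw [← h3, ← h2, ← conj_eq_of_bnu _ hb hu e (hST _ ih.2) (h2 ▸ hST _ h1), ← ih.1, pow_succ']
        group
    obtain ⟨o, ho⟩ : ∃ o, o = Nat.card (chevRel C K).WQ := ⟨_, rfl⟩
    have hno' : ((n : ↥(D.group K)) ^ o) ∈ (chevRel C K).HS := by
      rw [← Subgroup.coe_pow]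
      refine (chevRel C K).qmk_eq_one.1 ?_
      rw [map_pow, ho, pow_card_eq_one']
    have h4 : t ^ o * s * (t ^ o)⁻¹ = s := hψi ((hit o).1.symm.trans (by
      rw [(chevRel C K).HS_isMulCommutative hno' (hST s hs), mul_inv_cancel_right]))
    obtain ⟨k, hk⟩ := hT'p ⟨t, ht⟩
    have hkt : t ^ l' ^ k = 1 := by simpa [Subtype.ext_iff] using hk
    have hcop : Nat.Coprime o (orderOf t) :=
      Nat.Coprime.coprime_dvd_right (orderOf_dvd_of_pow_eq_one hkt)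
        (Nat.Coprime.pow_right _ (((Fact.out : l'.Prime).coprime_iff_not_dvd.2 (ho ▸ hW)).symm))
    obtain ⟨m, hm⟩ := exists_pow_eq_self_of_coprime hcop
    have h5 : Commute (t ^ o) s := (mul_inv_eq_iff_eq_mul.1 h4)
    have h6 := h5.pow_left m
    rw [hm] at h6
    exact h6.symm.eq
  obtain ⟨g, hg, hg'⟩ := exists_conj_into_two hidx hidx'
    (fun p hp q hq => Subtype.ext ((chevRel C K).HS_isMulCommutative
      (Subgroup.mem_subgroupOf.1 hp) (Subgroup.mem_subgroupOf.1 hq)))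
    (hS.map H.subtype) (hT'p.map H.subtype) (by
      rintro _ ⟨s, hs, rfl⟩ _ ⟨t, ht, rfl⟩
      rw [← map_mul, ← map_mul, hcomm s hs t ht])
  obtain ⟨ψ, hψ⟩ : ∃ ψ : ↥H →* ↥(D.group K), ψ = Γ.subtype.comp ((MulAut.conj g).toMonoidHom.comp H.subtype) :=
    ⟨_, rfl⟩
  have hψi : Function.Injective ψ := by
    rw [hψ]
    exact Γ.subtype_injective.comp ((MulAut.conj g).injective.comp H.subtype_injective)
  obtain ⟨y, hy⟩ : ∃ y, y = (y₀ : ↥H) := ⟨_, rfl⟩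
  have hya : π y = a := by rw [hy, ← hπ₀, hya₀]
  have hyS : y ∈ Subgroup.normalizer (S : Set ↥H) :=
    hy ▸ (Subgroup.mem_inf.1 ((SetLike.ext_iff.1 hM _).1 y₀.2)).1
  have hyT : y ∈ Subgroup.normalizer (T' : Set ↥H) := by
    rw [hy, hT']
    exact Subgroup.le_normalizer_map M.subtype ⟨y₀, hy₀, rfl⟩
  obtain ⟨b', hb, n, u, hu, e, hkey⟩ := hΓ (ψ y) (by rw [hψ]; exact SetLike.coe_mem _)
  rcases hno _ hkey with h | h
  · have hxS : x ∈ S.map π := hmap ▸ Subgroup.mem_zpowers x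
    obtain ⟨s, hs, rfl⟩ := hxS
    obtain ⟨t, ht, hst⟩ := exists_commutator_eq C hψi hS
      (fun s hs => by rw [hψ]; exact Subgroup.mem_subgroupOf.1 (hg _ ⟨s, hs, rfl⟩)) hyS hb hu e h hs
    obtain ⟨k, hk⟩ : π t ∈ Subgroup.zpowers (π s) := hmap ▸ ⟨t, ht, rfl⟩
    apply hx1
    have hk' : π s ^ k = π t := hk
    rw [hst, map_mul, map_mul, map_mul, map_inv, map_inv, map_pow, hya, ← hk', ← conj_zpow, hax, mul_inv_eq_one,
      ← zpow_natCast, ← zpow_natCast, ← zpow_mul, ← zpow_mul, mul_comm]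
  · have hxS : (⟨x', hx'N⟩ : ↥N) ∈ S'.map π₀ := hmap' ▸ Subgroup.mem_zpowers _
    obtain ⟨s₀, hs₀, hse⟩ := hxS
    have hsx : π (s₀ : ↥H) = x' := by rw [← hπ₀, hse]
    obtain ⟨t, ht, hst⟩ := exists_commutator_eq C hψi hT'p
      (fun s hs => by rw [hψ]; exact Subgroup.mem_subgroupOf.1 (hg' _ ⟨s, hs, rfl⟩)) hyT hb hu e h
      (hT' ▸ ⟨s₀, hs₀, rfl⟩ : (s₀ : ↥H) ∈ T')
    obtain ⟨t₀, ht₀, rfl⟩ := (hT' ▸ ht : t ∈ S'.map M.subtype)
    obtain ⟨k, hk⟩ : π₀ t₀ ∈ Subgroup.zpowers (⟨x', hx'N⟩ : ↥N) := hmap' ▸ ⟨t₀, ht₀, rfl⟩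
    have hk' : x' ^ k = π (M.subtype t₀) := by
      rw [Subgroup.coe_subtype, ← hπ₀, ← hk, Subgroup.coe_zpow]
    apply hx1'
    rw [← hsx, hst, map_mul, map_mul, map_mul, map_inv, map_inv, map_pow, hya, ← hk', ← conj_zpow, hax',
      mul_inv_eq_one, ← zpow_natCast, ← zpow_natCast, ← zpow_mul, ← zpow_mul, mul_comm]

/-- A `2`-group whose squares have more solutions of `x * x = 1` than the torus gives no section. -/
theorem not_altSect_squares {Γ : Subgroup ↥(D.group K)} {b : ℕ}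
    (hidx : ¬ 2 ∣ (((chevRel C K).NS).subgroupOf Γ).index)
    (hexp : ∀ n : (chevRel C K).NS, (n : ↥(D.group K)) ∈ Γ → ((n : ↥(D.group K)) ^ (6 : ℕ)) ∈ (chevRel C K).HS)
    (htors : Nat.card {t : ↥(D.group K) // t ∈ (chevRel C K).HS ∧ t ∈ Γ ∧ t ^ (2 : ℕ) = 1} ≤ 4)
    {P : Subgroup (alternatingGroup (Fin b))} (hP : IsPGroup 2 P) {p₁ p₂ p₃ : alternatingGroup (Fin b)}
    (h₁ : p₁ ∈ P) (h₂ : p₂ ∈ P) (h₃ : p₃ ∈ P)
    (hcard : 4 < Nat.card {z : alternatingGroup (Fin b) //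
      z ∈ Subgroup.closure {p₁ ^ 2, p₂ ^ 2, p₃ ^ 2} ∧ z ^ (2 : ℕ) = 1}) : ¬ AltSect ↥Γ b := by
  classical
  rintro ⟨H, π, hπ⟩
  haveI : Finite ↥(D.group K) := (chevRel C K).Finite_of_field
  haveI : Fact (Nat.Prime 2) := ⟨Nat.prime_two⟩
  obtain ⟨S, hS, hmap, -⟩ := exists_lift hπ hP
  obtain ⟨g, hg⟩ := exists_conj_into hidx (hS.map H.subtype)
  obtain ⟨ψ, hψ⟩ : ∃ ψ : ↥H →* ↥(D.group K), ψ = Γ.subtype.comp ((MulAut.conj g).toMonoidHom.comp H.subtype) :=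
    ⟨_, rfl⟩
  have hψi : Function.Injective ψ := by
    rw [hψ]
    exact Γ.subtype_injective.comp ((MulAut.conj g).injective.comp H.subtype_injective)
  have hψΓ : ∀ h, ψ h ∈ Γ := fun h => by rw [hψ]; exact SetLike.coe_mem _
  have hsq : ∀ s ∈ S, ψ (s ^ 2) ∈ (chevRel C K).HS := by
    intro s hs
    have hn : ψ s ∈ (chevRel C K).NS := by rw [hψ]; exact Subgroup.mem_subgroupOf.1 (hg _ ⟨s, hs, rfl⟩)
    obtain ⟨k, hk⟩ := hS ⟨s, hs⟩
    have hk' : s ^ 2 ^ k = 1 := by simpa [Subtype.ext_iff] using hk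
    have h6 := hexp ⟨ψ s, hn⟩ (hψΓ s)
    have hgcd : (Nat.gcd 6 (2 ^ (k + 1))) = 2 := by
      rw [show (6 : ℕ) = 2 * 3 from rfl, pow_succ', Nat.gcd_mul_left,
        Nat.Coprime.gcd_eq_one (Nat.Coprime.pow_right k (by norm_num))]
    obtain ⟨i, hi⟩ := (⟨_, rfl⟩ : ∃ i, i = Nat.gcdA 6 (2 ^ (k + 1)))
    have hb := Nat.gcd_eq_gcd_ab 6 (2 ^ (k + 1))
    rw [hgcd] at hb
    have h7 : ψ s ^ (2 ^ (k + 1)) = 1 := by rw [← map_pow, pow_succ, pow_mul, hk', one_pow, map_one]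
    rw [map_pow, ← zpow_natCast, hb, zpow_add, zpow_mul, zpow_mul, zpow_natCast, zpow_natCast, h7, one_zpow,
      mul_one]
    exact Subgroup.zpow_mem _ h6 _
  obtain ⟨A, hA⟩ : ∃ A : Subgroup ↥H, A = ((chevRel C K).HS.comap ψ) ⊓ S := ⟨_, rfl⟩
  have hAmem : ∀ x, x ∈ A ↔ ψ x ∈ (chevRel C K).HS ∧ x ∈ S := fun x => by
    rw [hA, Subgroup.mem_inf, Subgroup.mem_comap]
  letI : CommGroup ↥A :=
    { (inferInstance : Group ↥A) with
      mul_comm := fun x y => Subtype.ext (hψi (by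
        rw [Subgroup.coe_mul, Subgroup.coe_mul, map_mul, map_mul]
        exact (chevRel C K).HS_isMulCommutative ((hAmem _).1 x.2).1 ((hAmem _).1 y.2).1)) }
  obtain ⟨B, hB⟩ : ∃ B : Subgroup (alternatingGroup (Fin b)), B = A.map π := ⟨_, rfl⟩
  letI : CommGroup ↥B :=
    { (inferInstance : Group ↥B) with
      mul_comm := fun x y => by
        obtain ⟨x', hx', hxe⟩ := (SetLike.ext_iff.1 hB _).1 x.2
        obtain ⟨y', hy', hye⟩ := (SetLike.ext_iff.1 hB _).1 y.2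
        refine Subtype.ext ?_
        rw [Subgroup.coe_mul, Subgroup.coe_mul, ← hxe, ← hye, ← map_mul, ← map_mul]
        exact congrArg π (congrArg Subtype.val (mul_comm (⟨x', hx'⟩ : ↥A) ⟨y', hy'⟩)) }
  obtain ⟨f, hf⟩ : ∃ f : ↥A →* ↥B, ∀ x, (f x : alternatingGroup (Fin b)) = π x :=
    ⟨(π.comp A.subtype).codRestrict B fun x => (SetLike.ext_iff.1 hB _).2 ⟨x, x.2, rfl⟩, fun _ => rfl⟩
  have hfs : Function.Surjective f := by
    rintro ⟨z, hz⟩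
    obtain ⟨x, hx, rfl⟩ := (SetLike.ext_iff.1 hB _).1 hz
    exact ⟨⟨x, hx⟩, Subtype.ext (hf _)⟩
  have hle : Subgroup.closure {p₁ ^ 2, p₂ ^ 2, p₃ ^ 2} ≤ B := by
    have hp : ∀ p ∈ P, p ^ 2 ∈ B := fun p hp => by
      rw [← hmap] at hp
      obtain ⟨s, hs, rfl⟩ := hp
      exact (SetLike.ext_iff.1 hB _).2 ⟨s ^ 2, (hAmem _).2 ⟨hsq s hs, pow_mem hs 2⟩, map_pow π s 2⟩
    rw [Subgroup.closure_le]
    rintro z (rfl | rfl | rfl)
    exacts [hp _ h₁, hp _ h₂, hp _ h₃]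
  have hcB : Nat.card {z : alternatingGroup (Fin b) //
      z ∈ Subgroup.closure {p₁ ^ 2, p₂ ^ 2, p₃ ^ 2} ∧ z ^ (2 : ℕ) = 1} ≤
      Nat.card (powMonoidHom 2 : ↥B →* ↥B).ker := by
    refine Nat.card_le_card_of_injective
      (fun z => ⟨⟨z.1, hle z.2.1⟩, MonoidHom.mem_ker.2 (Subtype.ext z.2.2)⟩) fun z z' h => ?_
    exact Subtype.ext (congrArg (fun w => ((w : ↥B) : alternatingGroup (Fin b))) (congrArg Subtype.val h))
  have hcA : Nat.card (powMonoidHom 2 : ↥A →* ↥A).ker ≤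
      Nat.card {t : ↥(D.group K) // t ∈ (chevRel C K).HS ∧ t ∈ Γ ∧ t ^ (2 : ℕ) = 1} := by
    refine Nat.card_le_card_of_injective
      (fun x => ⟨ψ ((x : ↥A) : ↥H), ((hAmem _).1 x.1.2).1, hψΓ _, ?_⟩) fun x x' h => ?_
    · rw [← map_pow, ← map_one ψ]
      exact congrArg ψ (congrArg Subtype.val (MonoidHom.mem_ker.1 x.2))
    · exact Subtype.ext (Subtype.ext (hψi (Subtype.mk.injEq .. ▸ h)))
  have := card_two_torsion_le f hfs
  omega

end CfsgLib.Known.AltTorus
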