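import Cfsg.Agent.Lib.Known.AltTorus.Lift
import Cfsg.Agent.Lib.Known.TrialityTorus.Tools
import Cfsg.Agent.Lib.Known.CyclicTorus.Weyl
import Cfsg.Agent.Lib.Lie.Rel.TorusConj
import Cfsg.Agent.Lib.Lie.Rel.Coxeter
import Cfsg.Agent.Lib.Lie.Rel.Torus

/-!
# Automorphisms induced on subgroups of the split torus

An element normalising a subgroup of the split torus acts on it like an element of the Weyl group.
-/

set_option autoImplicit false

namespace CfsgLib.Known.AltTorus

open Cfsg.Lie (ChevalleyDatum)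
open CfsgLib.Lie.Chev
open CfsgLib.Known.CyclicTorus (cvec wMat vecMul_wMat)
open scoped Matrix

variable {D : ChevalleyDatum} {X : Aux} {F : Type*} [Field F] {G : Type*} [Group G] (R : Rel D X F G)

/-- The images of the simple roots. -/
def key (π : Equiv.Perm (Fin D.nroots)) : List ℕ := List.ofFn fun i : Fin D.rank => (π (R.sroot i) : ℕ)

/-- The matrix of a list of images of the simple roots. -/
def keyMat (D : ChevalleyDatum) (X : Aux) (L : List ℕ) : Matrix (Fin D.rank) (Fin D.rank) ℤ :=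
  Matrix.of fun i j => X.coef j (L.getD i 0)

theorem keyMat_key (π : Equiv.Perm (Fin D.nroots)) : keyMat D X (key R π) = wMat R π := by
  ext i j
  simp [keyMat, key, wMat, cvec, List.getD_eq_getElem?_getD]

/-- The list contains the identity and is closed under the given words. -/
def chkKeys (D : ChevalleyDatum) (X : Aux) (words keys : List (List ℕ)) : Bool :=
  keys.contains ((List.range D.rank).map D.simple) && keys.all fun L => words.all fun w =>
    keys.contains (L.map (wordAct X w))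

theorem key_mem_of_closure {words keys : List (List ℕ)} (h : chkKeys D X words keys = true)
    {P : Set (Equiv.Perm (Fin D.nroots))}
    (hP : ∀ σ ∈ P, σ * σ = 1 ∧ ∃ w ∈ words, ∀ r, (σ r : ℕ) = wordAct X w r)
    {π : Equiv.Perm (Fin D.nroots)} (hπ : π ∈ Subgroup.closure P) : key R π ∈ keys := by
  simp only [chkKeys, Bool.and_eq_true, List.all_eq_true, List.contains_iff_mem] at h
  have step : ∀ σ ∈ P, ∀ τ, key R τ ∈ keys → key R (σ * τ) ∈ keys := by
    intro σ hσ τ hτ
    obtain ⟨-, w, hw, e⟩ := hP σ hσ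
    have h1 := h.2 _ hτ w hw
    have h2 : (key R τ).map (wordAct X w) = key R (σ * τ) := by
      simp only [key, List.map_ofFn]
      congr 1
      funext i
      simp [e]
    rwa [h2] at h1
  induction hπ using Subgroup.closure_induction_left with
  | one =>
    have e : key R 1 = (List.range D.rank).map D.simple := by
      refine List.ext_getElem (by simp [key]) fun i h1 h2 => ?_
      simp [key, Rel.sroot]
    exact e ▸ h.1
  | mul_left σ hσ τ _ ih => exact step σ hσ τ ih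
  | inv_mul_cancel σ hσ τ _ ih =>
    rw [inv_eq_of_mul_eq_one_left (hP σ hσ).1]
    exact step σ hσ τ ih

theorem key_mem {keys : List (List ℕ)} (h : chkKeys D X ((List.range D.rank).map fun i => [i]) keys = true)
    (n : R.NS) : key R (R.nsPerm n) ∈ keys := by
  refine key_mem_of_closure R h (P := Set.range R.wperm) ?_ ?_
  · rintro _ ⟨k, rfl⟩
    exact ⟨R.wperm_mul_self k, [(k : ℕ)], by simp, fun r => rfl⟩
  · obtain ⟨l, hl⟩ := R.exists_word n
    rw [← R.qact_qmk, hl]
    clear hl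
    induction l with
    | nil => rw [CfsgLib.Lie.Exchange.wprod_nil, map_one]; exact one_mem _
    | cons k l ih =>
      rw [CfsgLib.Lie.Exchange.wprod_cons, map_mul, R.qact_qgen]
      exact mul_mem (Subgroup.subset_closure ⟨k, rfl⟩) ih

/-- The Bruhat normal forms of the elements of `Γ` only need the given Weyl group elements. -/
def Bnu (Γ : Subgroup G) (keys : List (List ℕ)) : Prop :=
  ∀ g ∈ Γ, ∃ b ∈ R.BS, ∃ n : R.NS, ∃ u ∈ R.US (invSet (R.nsPerm n)),
    g = b * n * u ∧ key R (R.nsPerm n) ∈ keys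

theorem bnu_top (Γ : Subgroup G) {keys : List (List ℕ)}
    (h : chkKeys D X ((List.range D.rank).map fun i => [i]) keys = true) : Bnu R Γ keys := fun g _ => by
  obtain ⟨b, hb, n, u, hu, e⟩ := R.exists_bnu g
  exact ⟨b, hb, n, u, hu, e, key_mem R h n⟩

/-- The monomial part of the normal form conjugates torus elements as the element does. -/
theorem conj_eq_of_bnu {g b u : G} {n : R.NS} (hb : b ∈ R.BS) (hu : u ∈ R.US (invSet (R.nsPerm n)))
    (e : g = b * n * u) {h₁ : G} (h1 : h₁ ∈ R.HS) (h2 : g * h₁ * g⁻¹ ∈ R.HS) :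
    (n : G) * h₁ * (n : G)⁻¹ = g * h₁ * g⁻¹ := by
  obtain ⟨h₂, hh₂⟩ : ∃ h₂, h₂ = g * h₁ * g⁻¹ := ⟨_, rfl⟩
  rw [← hh₂] at h2 ⊢
  have hc : g * h₁ = h₂ * g := by rw [hh₂]; group
  subst e
  clear hh₂
  obtain ⟨v, hv, h, hh, rfl⟩ := R.exists_of_mem_BS hb
  have hk : (n : G) * h₁ * (n : G)⁻¹ ∈ R.HS := R.HS_conj n.2 h1
  have hu' : h₁⁻¹ * u * h₁ ∈ R.US (invSet (R.nsPerm n)) := by
    have := (Subgroup.mem_normalizer_iff.1 (R.HS_le_normalizer_US _ (inv_mem h1)) u).1 hu
    rwa [inv_inv] at this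
  have e1 : v * h * ((n : G) * h₁ * (n : G)⁻¹) = h₂ * (v * h) :=
    (R.bnu_unique (n := n) (mul_mem hb (R.HS_le_BS hk)) (mul_mem (R.HS_le_BS h2) hb) hu' hu (by
      rw [show v * h * ((n : G) * h₁ * (n : G)⁻¹) * n * (h₁⁻¹ * u * h₁) = v * h * n * u * h₁ by group, hc]
      group)).1
  have hv' : h₂ * v * h₂⁻¹ ∈ R.UP := (Subgroup.mem_normalizer_iff.1 (R.HS_le_normalizer_US _ h2) v).1 hv
  have e2 : (h₂ * v * h₂⁻¹)⁻¹ * v = h₂ * h * ((n : G) * h₁ * (n : G)⁻¹)⁻¹ * h⁻¹ := by
    have hv2 : v = h₂ * (v * h) * ((n : G) * h₁ * (n : G)⁻¹)⁻¹ * h⁻¹ := by rw [← e1]; group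
    generalize (n : G) * h₁ * (n : G)⁻¹ = k at hv2 ⊢
    calc (h₂ * v * h₂⁻¹)⁻¹ * v = (h₂ * v * h₂⁻¹)⁻¹ * (h₂ * (v * h) * k⁻¹ * h⁻¹) := by rw [← hv2]
      _ = h₂ * h * k⁻¹ * h⁻¹ := by group
  have h3 : (h₂ * v * h₂⁻¹)⁻¹ * v ∈ R.UP ⊓ R.HS :=
    Subgroup.mem_inf.2 ⟨mul_mem (inv_mem hv') hv, by
      rw [e2]; exact mul_mem (mul_mem (mul_mem h2 hh) (inv_mem hk)) (inv_mem hh)⟩
  rw [R.UP_inf_HS, Subgroup.mem_bot, e2, R.HS_isMulCommutative h2 hh] at h3
  have h4 : h₂ * ((n : G) * h₁ * (n : G)⁻¹)⁻¹ = 1 := by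
    have h5 := congrArg (fun x => h⁻¹ * x * h) h3
    simpa [mul_assoc] using h5
  exact (mul_inv_eq_one.1 h4).symm

/-- A matrix with determinant prime to `l` kills no nonzero `l`-torsion vector. -/
theorem eq_zero_of_det {ι A : Type*} [Fintype ι] [DecidableEq ι] [AddCommGroup A] (M : Matrix ι ι ℤ) {N : ℤ}
    (hN : IsCoprime M.det N) (v : ι → A) (hv : ∀ i, ∑ j, M i j • v j = 0) (hNv : ∀ i, N • v i = 0) (i : ι) :
    v i = 0 := by
  have h1 : ∑ k, M.adjugate i k • ∑ j, M k j • v j = M.det • v i := by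
    simp only [Finset.smul_sum, smul_smul]
    rw [Finset.sum_comm]
    simp only [← Finset.sum_smul, ← Matrix.mul_apply, Matrix.adjugate_mul]
    simp [Matrix.one_apply]
  simp only [hv, smul_zero, Finset.sum_const_zero] at h1
  obtain ⟨u, w, huw⟩ := hN
  have h2 := congrArg (fun z : ℤ => z • v i) huw
  simp only [add_smul, mul_smul, ← h1, hNv, smul_zero, add_zero, one_smul] at h2
  exact h2.symm

/-- No eigenvector modulo `l` for the multiplier `c`. -/
def NoEigen (D : ChevalleyDatum) (X : Aux) (l c : ℕ) (L : List ℕ) : Prop :=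
  ¬ (l : ℤ) ∣ ((c : ℤ) • keyMat D X L - 1).det

theorem eq_one_of_conj_eq_pow (C : Cert D X) (K : Type*) [Field K] {h : ↥(D.group K)}
    (hh : h ∈ (chevRel C K).HS) (n : (chevRel C K).NS) {c l k : ℕ} (hl : l.Prime)
    (hc : (n : ↥(D.group K)) * h * (n : ↥(D.group K))⁻¹ = h ^ c)
    (hno : NoEigen D X l c (key (chevRel C K) ((chevRel C K).nsPerm n))) (hlk : h ^ (l ^ k) = 1) : h = 1 := by
  classical
  obtain ⟨z, hz⟩ := (chevRel C K).torusHom_surjective ⟨h, hh⟩
  obtain ⟨T, hT⟩ : ∃ T : (Fin D.rank → Kˣ) →* ↥(D.group K),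
      T = ((chevRel C K).HS.subtype).comp (chevRel C K).torusHom := ⟨_, rfl⟩
  have hTz : T z = h := by rw [hT, MonoidHom.comp_apply, hz]; rfl
  obtain ⟨val, hval⟩ : ∃ val : (Fin D.rank → Kˣ) → Fin D.nroots → Kˣ, ∀ c s,
      val c s = ∏ i : Fin D.rank, c i ^ D.cartan i s := ⟨_, fun _ _ => rfl⟩
  have hmon : ∀ c, (chevRel C K).IsMon (T c) 1 fun s => ((val c s : Kˣ) : K) := fun c => by
    simp only [hval, hT]
    exact TrialityTorus.isMon_torusHom (chevRel C K) c
  have hpow : ∀ (m : ℕ) s, val (z ^ m) s = val z s ^ m := fun m s => by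
    simp only [hval, Pi.pow_apply, ← Finset.prod_pow]
    refine Finset.prod_congr rfl fun i _ => ?_
    rw [← zpow_natCast, ← zpow_natCast, ← zpow_mul, ← zpow_mul, mul_comm]
  obtain ⟨π, hπ⟩ : ∃ π, π = (chevRel C K).nsPerm n := ⟨_, rfl⟩
  have heq : ∀ s, val z s = val z (π s) ^ c := by
    intro s
    obtain ⟨b, hb⟩ := (chevRel C K).isMon_nsPerm n
    have h1 := (chevRel C K).isMon_mul ((chevRel C K).isMon_mul hb (hmon z)) ((chevRel C K).isMon_inv hb)
    rw [mul_one, mul_inv_cancel, hTz, hc, ← hTz, ← map_pow] at h1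
    have h2 := congrFun ((chevRel C K).isMon_unique (hmon (z ^ c)) h1).2 (π s)
    rw [← hpow]
    refine Units.ext ((h2.trans ?_).symm)
    have hs : ((chevRel C K).nsPerm n)⁻¹ (π s) = s := by rw [hπ, Equiv.Perm.inv_def, Equiv.symm_apply_apply]
    simp only [Equiv.Perm.one_apply, hs]
    rw [mul_comm (b s), mul_assoc, mul_inv_cancel₀ (hb s).1, mul_one]
  obtain ⟨v, hv⟩ : ∃ v : Fin D.rank → Additive Kˣ,
      ∀ j, v j = Additive.ofMul (val z ((chevRel C K).sroot j)) := ⟨_, fun _ => rfl⟩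
  have hlin : ∀ s : Fin D.nroots, Additive.ofMul (val z s) = ∑ j : Fin D.rank, X.coef j (s : ℕ) • v j := by
    intro s
    have h1 : val z s = ∏ j : Fin D.rank, val z ((chevRel C K).sroot j) ^ X.coef j (s : ℕ) := by
      simp only [hval, ← Finset.prod_zpow, ← zpow_mul]
      rw [Finset.prod_comm]
      refine Finset.prod_congr rfl fun i _ => ?_
      rw [← zpow_finset_sum, C.cartan_eq s.2 i.2, Finset.sum_range]
      exact congrArg _ (Finset.sum_congr rfl fun j _ => mul_comm _ _)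
    simp only [hv, h1, ofMul_prod, ofMul_zpow]
  have hMv : ∀ i, ∑ j, ((c : ℤ) • keyMat D X (key (chevRel C K) π) - 1) i j • v j = 0 := by
    intro i
    simp only [keyMat_key, Matrix.sub_apply, Matrix.smul_apply, smul_eq_mul, sub_smul, Finset.sum_sub_distrib,
      mul_smul, ← Finset.smul_sum]
    rw [show ∑ j, (1 : Matrix (Fin D.rank) (Fin D.rank) ℤ) i j • v j = v i by simp [Matrix.one_apply]]
    simp only [wMat, Matrix.of_apply, cvec]
    have e : v i = (c : ℤ) • ∑ j : Fin D.rank, X.coef j (π ((chevRel C K).sroot i) : ℕ) • v j := by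
      rw [← hlin, natCast_zsmul, ← ofMul_pow, ← heq, hv]
    rw [sub_eq_zero]
    refine Eq.trans ?_ e.symm
    exact (map_sum (zsmulAddGroupHom (c : ℤ) : Additive Kˣ →+ Additive Kˣ) _ _).symm
  have hord : ∀ s, val z s ^ (l ^ k) = 1 := by
    intro s
    rw [← hpow]
    have h1 : (chevRel C K).IsMon (T (z ^ (l ^ k))) 1 fun _ => 1 := by
      rw [map_pow, hTz, hlk]; exact (chevRel C K).isMon_one
    exact Units.ext (congrFun ((chevRel C K).isMon_unique (hmon _) h1).2 s)
  have hv0 : ∀ i, v i = 0 := fun i => eq_zero_of_det _ (N := (l ^ k : ℤ))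
    (IsCoprime.pow_right (((Nat.prime_iff_prime_int.1 hl).coprime_iff_not_dvd.2 (hπ ▸ hno)).symm)) v hMv
    (fun j => by
      rw [← Nat.cast_pow, natCast_zsmul, hv, ← ofMul_pow, hord, ofMul_one]) i
  have hz1 : (chevRel C K).torusHom z = 1 := by
    refine MonoidHom.mem_ker.1 ((mem_torusHom_ker C K _).2 (MonoidHom.mem_ker.2 (funext fun j => ?_)))
    have h3 := congrArg Additive.toMul ((hv j).symm.trans (hv0 j))
    rw [toMul_ofMul, toMul_zero, hval] at h3
    rw [powMat_apply, Pi.one_apply, ← h3]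
    refine Finset.prod_congr rfl fun i _ => congrArg _ ?_
    simp [cmat, List.getD_eq_getElem?_getD, i.2, j.2, Rel.sroot]
  rw [← hTz, hT, MonoidHom.comp_apply, hz1, map_one]

end CfsgLib.Known.AltTorus
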