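import Cfsg.Agent.Lib.Known.AltTorus.Sections
import Cfsg.Agent.Lib.Known.CyclicTorus.Main
import Cfsg.Agent.Lib.Lie.Twisted.WeylEnum

/-!
# Enumerating Weyl groups by the images of the simple roots, and their eigenvalues modulo primes
-/

set_option autoImplicit false

namespace CfsgLib.Known.AltTorus

open Cfsg.Lie (ChevalleyDatum)
open CfsgLib.Lie.Chev

/-- breadth first enumeration -/
def genAux (X : Aux) (words : List (List ℕ)) : ℕ → List (List ℕ) → List (List ℕ) → List (List ℕ)
  | 0, seen, _ => seen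
  | n + 1, seen, front =>
    let r := front.foldl (fun acc L => words.foldl (fun acc w =>
      let L' := L.map (wordAct X w)
      if acc.1.contains L' then acc else (L' :: acc.1, L' :: acc.2)) acc) (seen, [])
    genAux X words n r.1 r.2

/-- The keys of the group generated by the words. -/
def genKeys (D : ChevalleyDatum) (X : Aux) (words : List (List ℕ)) (n : ℕ) : List (List ℕ) :=
  genAux X words n [(List.range D.rank).map D.simple] [(List.range D.rank).map D.simple]

/-- the simple reflections as words -/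
def simpleWords (D : ChevalleyDatum) : List (List ℕ) := (List.range D.rank).map fun i => [i]

/-- three by three determinant -/
def det3 (f : ℕ → ℕ → ℤ) (a b c x y z : ℕ) : ℤ :=
  f a x * (f b y * f c z - f b z * f c y) - f a y * (f b x * f c z - f b z * f c x) +
    f a z * (f b x * f c y - f b y * f c x)

/-- four by four determinant -/
def det4 (f : ℕ → ℕ → ℤ) : ℤ :=
  f 0 0 * det3 f 1 2 3 1 2 3 - f 0 1 * det3 f 1 2 3 0 2 3 + f 0 2 * det3 f 1 2 3 0 1 3 -
    f 0 3 * det3 f 1 2 3 0 1 2

theorem det4_eq (f : ℕ → ℕ → ℤ) : (Matrix.of fun i j : Fin 4 => f i j).det = det4 f := by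
  simp [Matrix.det_succ_row_zero, Fin.sum_univ_succ, det4, det3, Fin.succAbove]
  ring

/-- entries of `c • M - 1` -/
def entry (X : Aux) (c : ℕ) (L : List ℕ) (i j : ℕ) : ℤ :=
  (c : ℤ) * X.coef j (L.getD i 0) - if i = j then 1 else 0

/-- no eigenvalue, decided in rank four -/
def chkNoEigen4 (X : Aux) (l c : ℕ) (L : List ℕ) : Bool := decide (¬ (l : ℤ) ∣ det4 (entry X c L))

/-- no eigenvalue, decided in rank two -/
def chkNoEigen2 (X : Aux) (l c : ℕ) (L : List ℕ) : Bool :=
  decide (¬ (l : ℤ) ∣ entry X c L 0 0 * entry X c L 1 1 - entry X c L 0 1 * entry X c L 1 0)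

theorem noEigen_of_chk4 {D : ChevalleyDatum} {X : Aux} (hr : D.rank = 4) {l c : ℕ} {L : List ℕ}
    (h : chkNoEigen4 X l c L = true) : NoEigen D X l c L := by
  rw [chkNoEigen4, decide_eq_true_iff, ← det4_eq] at h
  rw [NoEigen, ← Matrix.det_submatrix_equiv_self (finCongr hr.symm)]
  have e : ((c : ℤ) • keyMat D X L - 1).submatrix (finCongr hr.symm) (finCongr hr.symm) =
      Matrix.of fun i j : Fin 4 => entry X c L i j := by
    ext i j
    simp [keyMat, entry, Matrix.one_apply, Fin.ext_iff]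
  rw [e]
  exact h

theorem noEigen_of_chk2 {D : ChevalleyDatum} {X : Aux} (hr : D.rank = 2) {l c : ℕ} {L : List ℕ}
    (h : chkNoEigen2 X l c L = true) : NoEigen D X l c L := by
  rw [chkNoEigen2, decide_eq_true_iff] at h
  rw [NoEigen, ← Matrix.det_submatrix_equiv_self (finCongr hr.symm), Matrix.det_fin_two]
  have e : ∀ i j : Fin 2, ((c : ℤ) • keyMat D X L - 1).submatrix (finCongr hr.symm) (finCongr hr.symm) i j =
      entry X c L i j := by
    intro i j
    simp [keyMat, entry, Matrix.one_apply, Fin.ext_iff]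
  simp only [e]
  exact h

/-- An even permutation given by its cycles. -/
def evenOf {b : ℕ} (p : Equiv.Perm (Fin b)) (h : Equiv.Perm.sign p = 1) : alternatingGroup (Fin b) :=
  ⟨p, Equiv.Perm.mem_alternatingGroup.2 h⟩

section

variable {D : ChevalleyDatum} {X : Aux}

theorem bnu_twisted {F : Type*} [Field F] {G : Type*} [Group G] {R : Rel D X F G} (T : TwG R) {words keys : List (List ℕ)}
    (hk : chkKeys D X words keys = true)
    (hw : ∀ k, ∃ w ∈ words, ∀ r, (R.nsPerm (T.nJ k) r : ℕ) = wordAct X w r) : Bnu R T.P1 keys := by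
  intro g hg
  obtain ⟨v, hv, n, u, hu, e, -, hn, -⟩ := T.P1_bnu hg
  refine ⟨v, R.UP_le_BS hv, n, u, hu, e, ?_⟩
  have h : R.nsPerm n ∈ T.permW := T.mem_permW.2 ⟨n, hn, rfl⟩
  rw [T.permW_eq_closure] at h
  refine key_mem_of_closure R hk ?_ h
  rintro _ ⟨k, rfl⟩
  refine ⟨Equiv.ext fun r => ?_, hw k⟩
  rw [Equiv.Perm.mul_apply, T.nJ_perm_invol, Equiv.Perm.one_apply]

theorem not_dvd_index_top (C : Cert D X) (K : Type*) [Field K] [Fintype K] {M U U' V V' : List (List ℤ)}
    {d degs : List ℕ} (hM : cmat D = M) (hchk : chkSmith D.rank M U U' V V' d = true)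
    (hd : ∀ i : Fin D.rank, d.getD i 0 = 1) (hp : chkPoly M D.rank (half D) degs = true)
    (hlen : degs.length = D.rank) {l : ℕ} (hl : l.Prime) (hlK : l ∣ Fintype.card K - 1)
    (hdeg : ∀ k ∈ degs, ¬ l ∣ k) : ¬ l ∣ (chevRel C K).HS.index := by
  haveI := (chevRel C K).Finite_of_field
  obtain ⟨Q, hQ⟩ : ∃ Q, Q = Fintype.card K := ⟨_, rfl⟩
  have hQ1 : 1 < Q := hQ ▸ Fintype.one_lt_card
  have hcardK : Nat.card ↥(D.group K) = Q ^ (D.nroots / 2) * (degs.map fun k => Q ^ k - 1).prod := by
    have h := card_group C K hM hchk hp hQ.symm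
    rwa [Finset.prod_eq_one (fun i _ => by rw [hd i, Nat.gcd_one_right]), one_mul] at h
  have hcardH : Nat.card ↥(chevRel C K).HS = (Q - 1) ^ D.rank := by
    have h := card_HS_mul C K hM hchk
    rw [← hQ] at h
    rwa [Finset.prod_eq_one (fun i _ => by rw [hd i, Nat.gcd_one_right]), one_mul] at h
  obtain ⟨M', hM', hprod⟩ := CyclicTorus.exists_prod_pow_sub_one hl (hQ ▸ hlK) hQ1.le degs hdeg
  have h1 := (chevRel C K).HS.card_mul_index
  rw [hcardK, hprod, hlen, hcardH, mul_left_comm] at h1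
  rw [Nat.eq_of_mul_eq_mul_left (pow_pos (by omega) _) h1]
  intro h
  rcases hl.dvd_mul.1 h with h | h
  · have h2 := Nat.dvd_sub (hl.dvd_of_dvd_pow h) (hQ ▸ hlK)
    rw [Nat.sub_sub_self hQ1.le] at h2
    exact hl.not_dvd_one h2
  · exact hM' h

end

end CfsgLib.Known.AltTorus
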