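import Cfsg.Agent.Lib.Known.AltTorus.Data
import Cfsg.Agent.Lib.Lie.Rel.WeylData
import Cfsg.Agent.Lib.Lie.Twisted.Basic

/-!
# Exponent six and tori of rank two
-/

set_option autoImplicit false

namespace CfsgLib.Known.AltTorus

open Cfsg.Lie (ChevalleyDatum)
open CfsgLib.Lie.Chev
open CfsgLib.Known.CyclicTorus (cvec wMat wMat_pow isLin_pow cvec_negF)

variable {D : ChevalleyDatum} {X : Aux} {F : Type*} [Field F] {G : Type*} [Group G] (R : Rel D X F G)

theorem pow_mem_HS_of_keyMat {n : R.NS} {e : ℕ} (h : keyMat D X (key R (R.nsPerm n)) ^ e = 1) :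
    ((n ^ e : R.NS) : G) ∈ R.HS := by
  rw [keyMat_key, ← wMat_pow R (R.isLin_nsPerm n), ← map_pow] at h
  refine R.nsPerm_eq_one_of_pos _ fun i => ?_
  by_contra hneg
  have h1 := R.cert.coef_nonneg (R.negF (R.nsPerm (n ^ e) (R.sroot i))).2 i.2 ((R.negF_pos_iff _).2 hneg)
  have h2 := congrFun (cvec_negF R (R.nsPerm (n ^ e) (R.sroot i))) i
  have h3 : cvec D X (R.nsPerm (n ^ e) (R.sroot i) : ℕ) i = 1 := by
    have := congrFun (congrFun h i) i
    simpa [wMat, Matrix.one_apply] using this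
  simp only [cvec, Pi.neg_apply] at h2 h3
  rw [h3] at h2
  omega

theorem card_ker_sq_cyclic (W : Type*) [CommGroup W] [IsCyclic W] [Finite W] :
    Nat.card (powMonoidHom 2 : W →* W).ker ≤ 2 := by
  rw [IsCyclic.card_powMonoidHom_ker]
  exact Nat.le_of_dvd two_pos (Nat.gcd_dvd_right _ _)

/-- the squares of `1` in a product of two cyclic groups -/
theorem card_sq_one_le {U V : Type*} [CommGroup U] [IsCyclic U] [Finite U] [CommGroup V] [IsCyclic V] [Finite V]
    (f : U × V →* G) {T : Subgroup G} (hT : f.range = T) :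
    Nat.card {t : G // t ∈ T ∧ t ^ (2 : ℕ) = 1} ≤ 4 := by
  subst hT
  haveI : Finite ↥f.range := Finite.of_surjective _ f.rangeRestrict_surjective
  letI : CommGroup ↥f.range :=
    { (inferInstance : Group ↥f.range) with
      mul_comm := by
        rintro ⟨_, a, rfl⟩ ⟨_, b, rfl⟩
        exact Subtype.ext (by rw [Subgroup.coe_mul, Subgroup.coe_mul, ← map_mul, ← map_mul, mul_comm]) }
  have h1 := card_two_torsion_le (A := U × V) (B := ↥f.range) f.rangeRestrict f.rangeRestrict_surjective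
  have h2 : Nat.card {t : G // t ∈ f.range ∧ t ^ (2 : ℕ) = 1} ≤ Nat.card (powMonoidHom 2 : ↥f.range →* ↥f.range).ker :=
    Nat.card_le_card_of_injective (fun t => ⟨⟨t.1, t.2.1⟩, MonoidHom.mem_ker.2 (Subtype.ext t.2.2)⟩)
      fun t t' h => Subtype.ext (congrArg (fun w => ((w : ↥f.range) : G)) (congrArg Subtype.val h))
  have h3 : Nat.card (powMonoidHom 2 : U × V →* U × V).ker ≤
      Nat.card ((powMonoidHom 2 : U →* U).ker × (powMonoidHom 2 : V →* V).ker) :=
    Nat.card_le_card_of_injective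
      (fun z => (⟨z.1.1, MonoidHom.mem_ker.2 (congrArg Prod.fst (MonoidHom.mem_ker.1 z.2))⟩,
        ⟨z.1.2, MonoidHom.mem_ker.2 (congrArg Prod.snd (MonoidHom.mem_ker.1 z.2))⟩))
      fun z z' h => Subtype.ext (Prod.ext (congrArg (fun w => (w.1 : U)) h) (congrArg (fun w => (w.2 : V)) h))
  rw [Nat.card_prod] at h3
  have := Nat.mul_le_mul (card_ker_sq_cyclic U) (card_ker_sq_cyclic V)
  omega

end CfsgLib.Known.AltTorus
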