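import Cfsg.Agent.Lib.Known.AltTorus.Counting
import Cfsg.Agent.Lib.Known.AltTorus.F4Table

/-!
# Alternating sections of `F₄(q)`
-/

set_option autoImplicit false
set_option maxRecDepth 10000

namespace CfsgLib.Known.AltTorus

open Cfsg.Lie (ChevalleyDatum chevG2 chevF4 chevD4 twistedD4 twistedF4)
open CfsgLib.Lie.Chev
open CfsgLib.Lie.Chev.TwGroups

/-! ### `F₄` -/

section F4

/-- the keys of `W(F₄)` -/
def keysF4 : List (List ℕ) := tblF4.flatten

/-- a position in the table -/
def lookF4 (k : ℕ) : List ℕ := (tblF4.getD (k / 32) []).getD (k % 32) []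

/-- equality of lists of numbers -/
def eqList : List ℕ → List ℕ → Bool
  | [], [] => true
  | a :: l, b :: l' => Nat.beq a b && eqList l l'
  | _, _ => false

theorem eq_of_eqList : ∀ {l l' : List ℕ}, eqList l l' = true → l = l'
  | [], [], _ => rfl
  | a :: l, b :: l', h => by
    rw [eqList, Bool.and_eq_true, nat_beq_iff] at h
    rw [h.1, eq_of_eqList h.2]
  | [], _ :: _, h => by simp [eqList] at h
  | _ :: _, [], h => by simp [eqList] at h

/-- a row of the table maps into the table under the simple reflections -/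
def chkRow (L : List ℕ) (ix : List ℕ) : Bool :=
  Nat.beq L.length 4 && (List.range 4).all fun i =>
    eqList (lookF4 (ix.getD i 0)) (L.map (auxF4.w i))

/-- a block of the table maps into the table -/
def chkBlock (b : ℕ) : Bool :=
  Nat.beq (tblF4.getD b []).length 32 && (List.range 32).all fun j =>
    chkRow ((tblF4.getD b []).getD j []) ((nxtF4.getD b []).getD j [])

theorem blocksF4_ok : (List.range 36).all chkBlock = true := by decide +kernel

theorem lengthTblF4 : tblF4.length = 36 ∧ chevF4.rank = 4 ∧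
    lookF4 0 = (List.range chevF4.rank).map chevF4.simple := by decide +kernel

theorem lookF4_mem {k : ℕ} (h : lookF4 k ≠ []) : lookF4 k ∈ keysF4 := by
  rw [lookF4] at h ⊢
  by_cases h1 : k / 32 < tblF4.length
  · rw [List.getD_eq_getElem _ _ h1] at h ⊢
    by_cases h2 : k % 32 < (tblF4[k / 32]).length
    · rw [List.getD_eq_getElem _ _ h2]
      exact List.mem_flatten.2 ⟨_, List.getElem_mem h1, List.getElem_mem h2⟩
    · exact absurd (List.getD_eq_default _ _ (by omega)) h
  · rw [List.getD_eq_default (l := tblF4) _ (by omega)] at h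
    exact absurd rfl h

theorem chkKeysF4 : chkKeys chevF4 auxF4 (simpleWords chevF4) keysF4 = true := by
  obtain ⟨hlen, hr, h0⟩ := lengthTblF4
  have hne : (List.range chevF4.rank).map chevF4.simple ≠ [] := by rw [hr]; simp
  rw [chkKeys, Bool.and_eq_true, List.contains_iff_mem, List.all_eq_true]
  refine ⟨h0 ▸ lookF4_mem (h0.symm ▸ hne), fun L hL => ?_⟩
  rw [List.all_eq_true]
  intro w hw
  rw [simpleWords, hr, List.mem_map] at hw
  obtain ⟨i, hi, rfl⟩ := hw
  obtain ⟨B, hB, hLB⟩ := List.mem_flatten.1 hL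
  obtain ⟨b, hb, rfl⟩ := List.getElem_of_mem hB
  obtain ⟨j, hj, rfl⟩ := List.getElem_of_mem hLB
  have hblk := List.all_eq_true.1 blocksF4_ok b (List.mem_range.2 (hlen ▸ hb))
  rw [chkBlock, Bool.and_eq_true, nat_beq_iff, List.getD_eq_getElem _ _ hb] at hblk
  have hrow := List.all_eq_true.1 hblk.2 j (List.mem_range.2 (hblk.1 ▸ hj))
  rw [List.getD_eq_getElem _ _ hj, chkRow, Bool.and_eq_true, nat_beq_iff] at hrow
  have he := eq_of_eqList (List.all_eq_true.1 hrow.2 i hi)
  have hmap : (tblF4[b][j]).map (wordAct auxF4 [i]) = (tblF4[b][j]).map (auxF4.w i) := rfl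
  rw [List.contains_iff_mem, hmap, ← he]
  refine lookF4_mem fun e => ?_
  rw [e, eq_comm, List.map_eq_nil_iff] at he
  rw [he] at hrow
  simp at hrow

theorem eigenF4 : keysF4.all (chkNoEigen4 auxF4 11 3) = true ∧
    keysF4.all (fun L => chkNoEigen4 auxF4 5 2 L || chkNoEigen4 auxF4 7 3 L) = true := by decide +kernel

theorem keysF4_ok : chkKeys chevF4 auxF4 (simpleWords chevF4) keysF4 = true ∧
    keysF4.all (chkNoEigen4 auxF4 11 3) = true ∧
    keysF4.all (fun L => chkNoEigen4 auxF4 5 2 L || chkNoEigen4 auxF4 7 3 L) = true :=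
  ⟨chkKeysF4, eigenF4⟩

theorem not_altSect_eleven_F4 {F : Type*} [Field F] [Fintype F] {p : ℕ} [Fact p.Prime] [CharP F p] (hp : p ≠ 11) :
    ¬ AltSect ↥(chevF4.group F) 11 := by
  intro h
  haveI : Fact (Nat.Prime 11) := ⟨by norm_num⟩
  obtain ⟨L, _, _, j, hL⟩ := exists_ext F 10
  obtain ⟨x, a, hx, hx1, hax⟩ := alt11_eleven
  have hK : 11 ∣ Fintype.card L - 1 := hL ▸ dvd_pow_sub_one_of_char (p := p) (by norm_num) hp (dvd_refl 10)
  refine not_altSect_one certF4 (bnu_top (chevRel certF4 L) ⊤ keysF4_ok.1) ?_ ?_ x a hx hx1 hax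
    (altSect_top (h.map (ChevFixed.groupMap_injective j)))
  · rw [index_subgroupOf_top]
    exact not_dvd_index_top certF4 L cmat_F4 smithF4 (by decide +kernel) polyF4 rfl (by norm_num) hK (by decide)
  · exact fun L' hL' => noEigen_of_chk4 (by decide +kernel) (List.all_eq_true.1 keysF4_ok.2.1 L' hL')

theorem not_altSect_twelve_F4 {F : Type*} [Field F] [Fintype F] [CharP F 11] :
    ¬ AltSect ↥(chevF4.group F) 12 := by
  intro h
  haveI : Fact (Nat.Prime 11) := ⟨by norm_num⟩
  haveI : Fact (Nat.Prime 5) := ⟨by norm_num⟩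
  haveI : Fact (Nat.Prime 7) := ⟨by norm_num⟩
  obtain ⟨L, _, _, j, hL⟩ := exists_ext F 12
  obtain ⟨x, x', a, hx, hx1, hx', hx1', hxx, hax, hax'⟩ := alt12_five_seven
  have h5 : 5 ∣ Fintype.card L - 1 := hL ▸ dvd_pow_sub_one_of_char (p := 11) (by norm_num) (by norm_num) ⟨3, rfl⟩
  have h7 : 7 ∣ Fintype.card L - 1 := hL ▸ dvd_pow_sub_one_of_char (p := 11) (by norm_num) (by norm_num) ⟨2, rfl⟩
  have hi5 : ¬ 5 ∣ (chevRel certF4 L).HS.index :=
    not_dvd_index_top certF4 L cmat_F4 smithF4 (by decide +kernel) polyF4 rfl (by norm_num) h5 (by decide)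
  have hi7 : ¬ 7 ∣ (chevRel certF4 L).HS.index :=
    not_dvd_index_top certF4 L cmat_F4 smithF4 (by decide +kernel) polyF4 rfl (by norm_num) h7 (by decide)
  refine not_altSect_two certF4 (bnu_top (chevRel certF4 L) ⊤ keysF4_ok.1) (l := 5) (l' := 7) ?_ ?_ ?_ ?_
    x x' a hx hx1 hx' hx1' hxx hax hax' (altSect_top (h.map (ChevFixed.groupMap_injective j)))
  · rwa [index_subgroupOf_top]
  · rwa [index_subgroupOf_top]
  · exact fun hd => hi7 (hd.trans (Subgroup.relIndex_dvd_index_of_le (chevRel certF4 L).HS_le_NS))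
  · intro L' hL'
    rcases Bool.or_eq_true_iff.1 (List.all_eq_true.1 keysF4_ok.2.2 L' hL') with h1 | h1
    · exact Or.inl (noEigen_of_chk4 (by decide +kernel) h1)
    · exact Or.inr (noEigen_of_chk4 (by decide +kernel) h1)

end F4

end CfsgLib.Known.AltTorus
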