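import Cfsg.Agent.Lib.Known.AltTorus.Counting

/-!
# Alternating sections of `G₂(q)`
-/

set_option autoImplicit false
set_option maxRecDepth 10000

namespace CfsgLib.Known.AltTorus

open Cfsg.Lie (ChevalleyDatum chevG2 chevF4 chevD4 twistedD4 twistedF4)
open CfsgLib.Lie.Chev
open CfsgLib.Lie.Chev.TwGroups

/-! ### `G₂` -/

section G2

/-- the keys of `W(G₂)` -/
def keysG2 : List (List ℕ) := genKeys chevG2 auxG2 (simpleWords chevG2) 8

theorem keysG2_ok : chkKeys chevG2 auxG2 (simpleWords chevG2) keysG2 = true ∧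
    keysG2.all (chkNoEigen2 auxG2 5 2) = true := by decide +kernel

theorem powG2 : ∀ L ∈ keysG2, keyMat chevG2 auxG2 L ^ 6 = 1 := by decide +kernel

theorem not_altSect_seven_G2 {F : Type*} [Field F] [Fintype F] {p : ℕ} [Fact p.Prime] [CharP F p] (hp : p ≠ 5) :
    ¬ AltSect ↥(chevG2.group F) 7 := by
  intro h
  haveI : Fact (Nat.Prime 5) := ⟨by norm_num⟩
  obtain ⟨L, _, _, j, hL⟩ := exists_ext F 4
  obtain ⟨x, a, hx, hx1, hax⟩ := alt7_five
  have hK5 : 5 ∣ Fintype.card L - 1 := hL ▸ dvd_pow_sub_one_of_char (p := p) (by norm_num) hp (dvd_refl 4)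
  refine not_altSect_one certG2 (bnu_top (chevRel certG2 L) ⊤ keysG2_ok.1) ?_ ?_ x a hx hx1 hax
    (altSect_top (h.map (ChevFixed.groupMap_injective j)))
  · rw [index_subgroupOf_top]
    exact not_dvd_index_top certG2 L cmat_G2 smithG2 (by decide +kernel) polyG2 rfl (by norm_num) hK5 (by decide)
  · exact fun L' hL' => noEigen_of_chk2 (by decide +kernel) (List.all_eq_true.1 keysG2_ok.2 L' hL')

theorem not_altSect_eight_G2 {F : Type*} [Field F] [Fintype F] [CharP F 5] : ¬ AltSect ↥(chevG2.group F) 8 := by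
  intro h
  haveI : Fact (Nat.Prime 5) := ⟨by norm_num⟩
  obtain ⟨P, p₁, p₂, p₃, hP, h1, h2, h3, hcard⟩ := alt8_squares
  obtain ⟨a, -, hF⟩ := FiniteField.card F 5
  obtain ⟨q, hq⟩ : ∃ q, q = Fintype.card F := ⟨_, rfl⟩
  have hq4 : q % 4 = 1 := by rw [hq, hF, Nat.pow_mod]; simp
  haveI := (chevRel certG2 F).Finite_of_field
  obtain ⟨R, hR⟩ : ∃ R, R = chevRel certG2 F := ⟨_, rfl⟩
  refine not_altSect_squares certG2 (K := F) (Γ := ⊤) ?_ ?_ ?_ hP h1 h2 h3 hcard (altSect_top h)
  · rw [index_subgroupOf_top]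
    have hW : (chevRel certG2 F).HS.relIndex (chevRel certG2 F).NS = 12 := by
      obtain ⟨M, hM⟩ : ∃ M : CoxeterMatrix (Fin chevG2.rank), chkCox chevG2 auxG2 M.M = true :=
        ⟨CoxeterMatrix.G₂, coxG2⟩
      obtain ⟨cs, -⟩ := (chevRel certG2 F).exists_coxeterSystem M hM
      rw [← card_coxeter certG2 M hM cmat_G2 (n := 12) (by decide +kernel), ← Nat.card_congr cs.mulEquiv.toEquiv]
      rfl
    have h0 := Subgroup.relIndex_mul_index (chevRel certG2 F).HS_le_NS
    have hG := (chevRel certG2 F).HS.card_mul_index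
    have hcH := card_HS_mul certG2 F cmat_G2 smithG2
    have hcG := card_group certG2 F cmat_G2 smithG2 polyG2 rfl
    rw [Finset.prod_eq_one (fun i _ => by
      rw [(by decide +kernel : ∀ i : Fin chevG2.rank, ([1, 1] : List ℕ).getD (i : ℕ) 0 = 1) i, Nat.gcd_one_right]),
      one_mul] at hcH hcG
    replace hcH : Nat.card ↥(chevRel certG2 F).HS = (q - 1) ^ 2 := by rw [hcH, hq]; rfl
    rw [← hq] at hcG
    rw [hcH, hcG, ← h0, hW] at hG
    simp only [List.map_cons, List.map_nil, List.prod_cons, List.prod_nil, mul_one] at hG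
    intro hev
    obtain ⟨t, ht⟩ := hev
    have e2 : q ^ 2 - 1 = (q - 1) * (q + 1) := by rw [← Nat.sq_sub_sq q 1 |>.trans (mul_comm _ _)]
    have e6 : q ^ 6 - 1 = (q - 1) * ((q + 1) * ((q ^ 2 + q + 1) * (q ^ 2 + 1 - q))) := by
      have hle : q ≤ q ^ 2 + 1 := le_trans (Nat.le_self_pow two_ne_zero q) (Nat.le_succ _)
      have h1q : 1 ≤ q := by omega
      apply Int.ofNat.inj
      show ((_ : ℕ) : ℤ) = ((_ : ℕ) : ℤ)
      push_cast [Nat.cast_sub h1q, Nat.cast_sub hle, Nat.cast_sub (Nat.one_le_pow 6 q (by omega))]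
      ring
    rw [e2, e6, ht] at hG
    obtain ⟨N, hN⟩ : ∃ N, N = q ^ (chevG2.nroots / 2) * ((q ^ 2 + q + 1) * (q ^ 2 + 1 - q)) := ⟨_, rfl⟩
    have hodd : N % 2 = 1 := by
      have hq2 : q % 2 = 1 := by omega
      have hle : q ≤ q ^ 2 + 1 := le_trans (Nat.le_self_pow two_ne_zero q) (Nat.le_succ _)
      have s2 : q ^ 2 % 2 = 1 := by rw [Nat.pow_mod, hq2]
      have a1 : (q ^ 2 + q + 1) % 2 = 1 := by omega
      have a2 : (q ^ 2 + 1 - q) % 2 = 1 := by omega
      simp [hN, Nat.mul_mod, Nat.pow_mod, hq2, a1, a2]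
    have h5 : (q - 1) ^ 2 * (12 * (2 * t)) = (q - 1) ^ 2 * ((q + 1) * (q + 1) * N) := by
      rw [hG, hN]; ring
    have h6 := Nat.eq_of_mul_eq_mul_left (pow_pos (by have := Fintype.one_lt_card (α := F); omega) 2) h5
    obtain ⟨w, hw⟩ : ∃ w, q + 1 = 2 * (2 * w + 1) := ⟨(q - 1) / 4, by omega⟩
    rw [hw] at h6
    have h7 : 6 * t = (2 * w + 1) * (2 * w + 1) * N := by linarith
    have h8 : ((2 * w + 1) * (2 * w + 1) * N) % 2 = 1 := by
      rw [Nat.mul_mod, Nat.mul_mod (2 * w + 1), hodd]; simp [Nat.add_mod, Nat.mul_mod]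
    omega
  · intro n _
    rw [← Subgroup.coe_pow]
    exact pow_mem_HS_of_keyMat (chevRel certG2 F) (powG2 _ (key_mem (chevRel certG2 F) keysG2_ok.1 n))
  · let f : Fˣ × Fˣ →* ↥(chevG2.group F) :=
      ((chevRel certG2 F).HS.subtype.comp (chevRel certG2 F).torusHom).comp
        { toFun := fun z (i : Fin chevG2.rank) => if (i : ℕ) = 0 then z.1 else z.2
          map_one' := funext fun i => by simp
          map_mul' := fun z w => funext fun i => by simp only [Pi.mul_apply]; split <;> rfl }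
    have hf : f.range = (chevRel certG2 F).HS := by
      refine le_antisymm ?_ fun t ht => ?_
      · rintro _ ⟨z, rfl⟩
        exact SetLike.coe_mem _
      · obtain ⟨c, hc⟩ := (chevRel certG2 F).torusHom_surjective ⟨t, ht⟩
        refine ⟨(c ⟨0, by decide +kernel⟩, c ⟨1, by decide +kernel⟩), ?_⟩
        refine Eq.trans (congrArg (fun w : Fin chevG2.rank → Fˣ =>
          (((chevRel certG2 F).torusHom w : (chevRel certG2 F).HS) : ↥(chevG2.group F))) (a₂ := c) (funext fun i => ?_))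
          (congrArg Subtype.val hc)
        obtain ⟨i, hi⟩ := i
        have hi2 : i < 2 := hi
        interval_cases i <;> rfl
    refine le_trans ?_ (card_sq_one_le f hf)
    exact Nat.card_le_card_of_injective (fun t => ⟨t.1, t.2.1, t.2.2.2⟩)
      fun t t' h => Subtype.ext (Subtype.mk.inj h)

end G2

end CfsgLib.Known.AltTorus
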