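import Cfsg.Agent.Lib.Known.AltTorus.Counting
import Cfsg.Agent.Lib.Lie.Twisted.D4Torus

/-!
# Alternating sections of `³D₄(q)`
-/

set_option autoImplicit false
set_option maxRecDepth 10000

namespace CfsgLib.Known.AltTorus

open Cfsg.Lie (ChevalleyDatum chevG2 chevF4 chevD4 twistedD4 twistedF4)
open CfsgLib.Lie.Chev
open CfsgLib.Lie.Chev.TwGroups

/-! ### `³D₄` -/

section TwD4

/-- the keys of the Weyl group of `³D₄` -/
def keysTD4 : List (List ℕ) := genKeys chevD4 auxD4 wordsTD4 8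

theorem keysTD4_ok : chkKeys chevD4 auxD4 wordsTD4 keysTD4 = true ∧
    keysTD4.all (chkNoEigen4 auxD4 5 2) = true := by decide +kernel

theorem powTD4 : ∀ L ∈ keysTD4, keyMat chevD4 auxD4 L ^ 6 = 1 := by decide +kernel

theorem bnuTD4 {K : Type*} [Field K] [Fintype K] {q : ℕ} (hq : IsPrimePow q) (hK : Fintype.card K = q ^ 3) :
    Bnu (chevRel certD4 K) (twD4 hq hK).P1 keysTD4 := by
  refine bnu_twisted (twD4 hq hK) keysTD4_ok.1 fun k => ⟨wordsTD4.getD (k : ℕ) [], ?_, fun r => ?_⟩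
  · have hk : (k : ℕ) < wordsTD4.length := k.2
    rw [List.getD_eq_getElem _ _ hk]
    exact List.getElem_mem _
  · exact (twD4 hq hK).nJ_apply (orbListD4 hq hK) rfl wordsTD4_ok k r

theorem twD4_index_mod_five : ¬ ((1 : ZMod 5) ^ 12 * ((1 + 1) * ((1 ^ 3 + 1) * (1 ^ 8 + 1 ^ 4 + 1)))) = 0 := by decide

theorem twD4_index_mod_eight : ∀ t q : ZMod 8, (q = 1 ∨ q = 5) →
    24 * t = q ^ 12 * ((q + 1) * ((q ^ 3 + 1) * (q ^ 8 + q ^ 4 + 1))) → False := by decide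

theorem not_altSect_seven_TD4 {K : Type*} [Field K] [Fintype K] {p a : ℕ} [Fact p.Prime] [CharP K p] (ha : 1 ≤ a)
    (hK : Fintype.card K = (p ^ a) ^ 3) (hp : p ≠ 5) : ¬ AltSect ↥(twistedD4 K (p ^ a)) 7 := by
  intro h
  haveI : Fact (Nat.Prime 5) := ⟨by norm_num⟩
  have hq : IsPrimePow (p ^ a) := (Fact.out : p.Prime).isPrimePow.pow (by omega)
  obtain ⟨L, _, _, j, hL⟩ := exists_ext K 4
  obtain ⟨Q, hQ⟩ : ∃ Q, Q = (p ^ a) ^ 4 := ⟨_, rfl⟩
  have hQp : IsPrimePow Q := hQ ▸ hq.pow (by norm_num)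
  have hL' : Fintype.card L = Q ^ 3 := by rw [hL, hK, hQ]; ring
  have hfix : ∀ t : K, t ^ ((p ^ a) ^ 3) = t := fun t => hK ▸ FiniteField.pow_card t
  have hQt : ∀ t : K, t ^ Q = t ^ (p ^ a) ∧ t ^ (Q ^ 2) = t ^ ((p ^ a) ^ 2) := by
    intro t
    have e1 : t ^ Q = t ^ (p ^ a) := by
      rw [hQ, pow_succ (p ^ a) 3, pow_mul, hfix]
    exact ⟨e1, by rw [sq, sq, pow_mul, e1, ← pow_mul, mul_comm (p ^ a) Q, pow_mul, e1, ← pow_mul]⟩
  have hmap : ∀ g ∈ (twistedD4 K (p ^ a)).subgroupOf (chevD4.group K),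
      ChevFixed.groupMap chevD4 j g ∈ (twistedD4 L Q).subgroupOf (chevD4.group L) := by
    intro g hg
    have hword : ∀ w : List (ℕ × K),
        ChevFixed.groupMap chevD4 j (wordG certD4 w) = wordG certD4 (w.map fun z => (z.1, j z.2)) := by
      intro w
      simp only [wordG, map_list_prod, List.map_map]
      refine congrArg List.prod (List.map_congr_left fun z _ => ?_)
      exact ChevFixed.groupMap_xe certD4 j z.1 z.2
    rw [show (twistedD4 K (p ^ a)).subgroupOf (chevD4.group K) = _ from genSubgroup_subgroupOf certD4 _] at hg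
    induction hg using Subgroup.closure_induction with
    | mem g hg =>
      obtain ⟨w, hw, rfl⟩ := hg
      rw [hword]
      refine wordG_mem certD4 ?_
      rcases hw with ⟨t, ht, r, hr, rfl⟩ | ⟨t, rs, hrs, rfl⟩
      · exact Or.inl ⟨j t, by rw [← map_pow, (hQt t).1, ht], r, hr, rfl⟩
      · refine Or.inr ⟨j t, rs, hrs, ?_⟩
        simp only [List.map_cons, List.map_nil, ← map_pow, (hQt t).1, (hQt t).2]
    | one => rw [map_one]; exact one_mem _
    | mul g g' _ _ h h' => rw [map_mul]; exact mul_mem h h'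
    | inv g _ h => rw [map_inv]; exact inv_mem h
  obtain ⟨x, a', hx, hx1, hax⟩ := alt7_five
  obtain ⟨ι, hι⟩ : ∃ ι : ↥((twistedD4 K (p ^ a)).subgroupOf (chevD4.group K)) →* ↥(twD4 hQp hL').P1,
      ∀ g, (ι g : ↥(chevD4.group L)) = ChevFixed.groupMap chevD4 j g :=
    ⟨((ChevFixed.groupMap chevD4 j).comp (Subgroup.subtype _)).codRestrict _ fun g => hmap g g.2, fun _ => rfl⟩
  have hιi : Function.Injective ι := fun g g' e => Subtype.ext (ChevFixed.groupMap_injective j (by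
    rw [← hι, ← hι, e]))
  refine not_altSect_one certD4 (bnuTD4 hQp hL') ?_ ?_ x a' hx hx1 hax
    ((h.map (f := (Subgroup.subgroupOfEquivOfLe twD4_le).symm.toMonoidHom) (MulEquiv.injective _)).map hιi)
  · have h1 := card_inf_mul_index (chevRel certD4 L).HS (twD4 hQp hL').P1
    rw [card_torusD4 hQp hL', show Nat.card ↥(twD4 hQp hL').P1 = Nat.card ↥(twistedD4 L Q) from
      Nat.card_congr (Subgroup.subgroupOfEquivOfLe twD4_le).toEquiv, card_twD4 hQp hL'] at h1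
    have hQ1 : 1 < Q := hQp.one_lt
    have e2 : Q ^ 2 - 1 = (Q - 1) * (Q + 1) := by
      apply Int.ofNat.inj
      show ((_ : ℕ) : ℤ) = ((_ : ℕ) : ℤ)
      push_cast [Nat.cast_sub hQ1.le, Nat.cast_sub (Nat.one_le_pow 2 Q (by omega))]
      ring
    have e6 : Q ^ 6 - 1 = (Q ^ 3 - 1) * (Q ^ 3 + 1) := by
      apply Int.ofNat.inj
      show ((_ : ℕ) : ℤ) = ((_ : ℕ) : ℤ)
      push_cast [Nat.cast_sub (Nat.one_le_pow 3 Q (by omega)), Nat.cast_sub (Nat.one_le_pow 6 Q (by omega))]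
      ring
    rw [e2, e6] at h1
    have hpos : 0 < (Q - 1) * (Q ^ 3 - 1) :=
      Nat.mul_pos (by omega) (Nat.sub_pos_of_lt (Nat.one_lt_pow (by norm_num) hQ1))
    have h2 : (Q - 1) * (Q ^ 3 - 1) * ((chevRel certD4 L).HS.subgroupOf (twD4 hQp hL').P1).index =
        (Q - 1) * (Q ^ 3 - 1) * (Q ^ 12 * ((Q + 1) * ((Q ^ 3 + 1) * (Q ^ 8 + Q ^ 4 + 1)))) := by
      rw [h1]; ring
    rw [Nat.eq_of_mul_eq_mul_left hpos h2, ← ZMod.natCast_eq_zero_iff]
    have hQ5 : ((Q : ℕ) : ZMod 5) = 1 := by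
      rw [hQ, Nat.cast_pow]
      refine ZMod.pow_card_sub_one_eq_one ?_
      rw [Ne, ZMod.natCast_eq_zero_iff]
      exact fun hd => hp ((Nat.prime_dvd_prime_iff_eq (by norm_num) (Fact.out : p.Prime)).1
        ((by norm_num : Nat.Prime 5).dvd_of_dvd_pow hd)).symm
    push_cast
    rw [hQ5]
    exact twD4_index_mod_five
  · exact fun L' hL' => noEigen_of_chk4 (by decide +kernel) (List.all_eq_true.1 keysTD4_ok.2 L' hL')

theorem not_altSect_eight_TD4 {K : Type*} [Field K] [Fintype K] {a : ℕ} (ha : 1 ≤ a)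
    (hK : Fintype.card K = (5 ^ a) ^ 3) : ¬ AltSect ↥(twistedD4 K (5 ^ a)) 8 := by
  intro h
  have hq : IsPrimePow (5 ^ a) := (by norm_num : Nat.Prime 5).isPrimePow.pow (by omega)
  haveI := (chevRel certD4 K).Finite_of_field
  obtain ⟨P, p₁, p₂, p₃, hP, h1, h2, h3, hcard⟩ := alt8_squares
  refine not_altSect_squares certD4 (Γ := (twD4 hq hK).P1) ?_ ?_ ?_ hP h1 h2 h3 hcard
    (h.map (f := (Subgroup.subgroupOfEquivOfLe twD4_le).symm.toMonoidHom) (MulEquiv.injective _))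
  · have h1 := card_inf_mul_index (chevRel certD4 K).NS (twD4 hq hK).P1
    have hN : Nat.card ↥((twD4 hq hK).P1 ⊓ (chevRel certD4 K).NS) =
        12 * ((5 ^ a - 1) * ((5 ^ a) ^ 3 - 1)) := by
      have hW : Nat.card ↥(twD4 hq hK).permW = 12 :=
        (twD4 hq hK).card_permW (orbListD4 hq hK) rfl wordsTD4_ok enumTD4_ok (by decide +kernel)
      have e1 : Nat.card ↥((twD4 hq hK).P1 ⊓ (chevRel certD4 K).NS) = Nat.card ↥(twD4 hq hK).NP :=
        Nat.card_congr ⟨fun x => ⟨⟨x.1, (Subgroup.mem_inf.1 x.2).2⟩, (Subgroup.mem_inf.1 x.2).1⟩,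
          fun x => ⟨x.1.1, Subgroup.mem_inf.2 ⟨x.2, x.1.2⟩⟩, fun _ => rfl, fun _ => rfl⟩
      have e2 : Nat.card ↥(twD4 hq hK).permHom.ker = (5 ^ a - 1) * ((5 ^ a) ^ 3 - 1) := by
        rw [← card_torusD4 hq hK]
        exact Nat.card_congr ⟨fun x => ⟨x.1.1.1, Subgroup.mem_inf.2
            ⟨x.1.2, (twD4 hq hK).permHom_eq_one.1 x.2⟩⟩,
          fun x => ⟨⟨⟨x.1, (chevRel certD4 K).HS_le_NS (Subgroup.mem_inf.1 x.2).2⟩, (Subgroup.mem_inf.1 x.2).1⟩,
            (twD4 hq hK).permHom_eq_one.2 (Subgroup.mem_inf.1 x.2).2⟩, fun _ => rfl, fun _ => rfl⟩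
      rw [e1, ← (twD4 hq hK).permHom.ker.card_mul_index, Subgroup.index_ker, e2,
        MonoidHom.range_eq_top.2 (twD4 hq hK).permHom_surjective, Subgroup.card_top, hW, mul_comm]
    rw [hN, show Nat.card ↥(twD4 hq hK).P1 = Nat.card ↥(twistedD4 K (5 ^ a)) from
      Nat.card_congr (Subgroup.subgroupOfEquivOfLe twD4_le).toEquiv, card_twD4 hq hK] at h1
    generalize ((chevRel certD4 K).NS.subgroupOf (twD4 hq hK).P1).index = I at h1 ⊢
    obtain ⟨q, hq'⟩ : ∃ q, q = 5 ^ a := ⟨_, rfl⟩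
    rw [← hq'] at h1
    have hq4 : q % 4 = 1 := by rw [hq', Nat.pow_mod]; simp
    have hq1 : 1 < q := hq' ▸ hq.one_lt
    have e2 : q ^ 2 - 1 = (q - 1) * (q + 1) := by
      apply Int.ofNat.inj
      show ((_ : ℕ) : ℤ) = ((_ : ℕ) : ℤ)
      push_cast [Nat.cast_sub hq1.le, Nat.cast_sub (Nat.one_le_pow 2 q (by omega))]
      ring
    have e6 : q ^ 6 - 1 = (q ^ 3 - 1) * (q ^ 3 + 1) := by
      apply Int.ofNat.inj
      show ((_ : ℕ) : ℤ) = ((_ : ℕ) : ℤ)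
      push_cast [Nat.cast_sub (Nat.one_le_pow 3 q (by omega)), Nat.cast_sub (Nat.one_le_pow 6 q (by omega))]
      ring
    rw [e2, e6] at h1
    have hpos : 0 < (q - 1) * (q ^ 3 - 1) :=
      Nat.mul_pos (by omega) (Nat.sub_pos_of_lt (Nat.one_lt_pow (by norm_num) hq1))
    intro hev
    obtain ⟨t, ht⟩ := hev
    rw [ht] at h1
    have h2 : (q - 1) * (q ^ 3 - 1) * (24 * t) =
        (q - 1) * (q ^ 3 - 1) * (q ^ 12 * ((q + 1) * ((q ^ 3 + 1) * (q ^ 8 + q ^ 4 + 1)))) := by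
      linarith
    have h3 := congrArg (fun z : ℕ => z % 8) (Nat.eq_of_mul_eq_mul_left hpos h2)
    have h8 : q % 8 = 1 ∨ q % 8 = 5 := by omega
    have h4 : (((24 * t : ℕ) : ZMod 8)) =
        ((q ^ 12 * ((q + 1) * ((q ^ 3 + 1) * (q ^ 8 + q ^ 4 + 1))) : ℕ) : ZMod 8) :=
      (ZMod.natCast_eq_natCast_iff' _ _ 8).2 h3
    have hq8 : (q : ZMod 8) = 1 ∨ (q : ZMod 8) = 5 :=
      h8.imp (fun e => (ZMod.natCast_eq_natCast_iff' q 1 8).2 e |>.trans Nat.cast_one)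
        fun e => ((ZMod.natCast_eq_natCast_iff' q 5 8).2 e).trans Nat.cast_ofNat
    push_cast at h4
    exact twD4_index_mod_eight _ _ hq8 h4
  · intro n hn
    rw [← Subgroup.coe_pow]
    refine pow_mem_HS_of_keyMat (chevRel certD4 K) (powTD4 _ ?_)
    have hn' : (chevRel certD4 K).nsPerm n ∈ (twD4 hq hK).permW := (twD4 hq hK).mem_permW.2 ⟨n, hn, rfl⟩
    rw [(twD4 hq hK).permW_eq_closure] at hn'
    refine key_mem_of_closure (chevRel certD4 K) keysTD4_ok.1 ?_ hn'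
    rintro _ ⟨k, rfl⟩
    have hk : (k : ℕ) < wordsTD4.length := k.2
    refine ⟨Equiv.ext fun r => ?_, wordsTD4.getD (k : ℕ) [], ?_,
      fun r => (twD4 hq hK).nJ_apply (orbListD4 hq hK) rfl wordsTD4_ok k r⟩
    · rw [Equiv.Perm.mul_apply, (twD4 hq hK).nJ_perm_invol, Equiv.Perm.one_apply]
    · rw [List.getD_eq_getElem _ _ hk]; exact List.getElem_mem _
  · refine le_trans ?_ (card_sq_one_le (psiD4 K (5 ^ a)) (psiD4_range hq hK))
    exact Nat.card_le_card_of_injective (fun t => ⟨t.1, Subgroup.mem_inf.2 ⟨t.2.2.1, t.2.1⟩, t.2.2.2⟩)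
      fun t t' h => Subtype.ext (Subtype.mk.inj h)

end TwD4

end CfsgLib.Known.AltTorus
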