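import Cfsg.Agent.Lib.Known.AltTorus.Counting
import Cfsg.Agent.Lib.Lie.Twisted.F4Torus

/-!
# Alternating sections of `²F₄(q)`
-/

set_option autoImplicit false
set_option maxRecDepth 10000

namespace CfsgLib.Known.AltTorus

open Cfsg.Lie (ChevalleyDatum chevG2 chevF4 chevD4 twistedD4 twistedF4)
open CfsgLib.Lie.Chev
open CfsgLib.Lie.Chev.TwGroups

/-! ### `²F₄` -/

section TwF4

/-- the keys of the Weyl group of `²F₄` -/
def keysTF4 : List (List ℕ) := genKeys chevF4 auxF4 wordsTF4 10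

theorem keysTF4_ok : chkKeys chevF4 auxF4 wordsTF4 keysTF4 = true ∧
    keysTF4.all (chkNoEigen4 auxF4 7 2) = true := by decide +kernel

theorem two_pow_mod_seven (n : ℕ) : 2 ^ n % 7 = 1 ∨ 2 ^ n % 7 = 2 ∨ 2 ^ n % 7 = 4 := by
  induction n with
  | zero => decide
  | succ n ih => rw [pow_succ, Nat.mul_mod]; rcases ih with h | h | h <;> simp [h]

theorem not_altSect_seven_TF4 {K : Type*} [Field K] [Fintype K] {m : ℕ} (hK : Fintype.card K = 2 ^ (2 * m + 1)) :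
    ¬ AltSect ↥(twistedF4 K (2 ^ m)) 7 := by
  intro h
  haveI : Fact (Nat.Prime 7) := ⟨by norm_num⟩
  haveI := charF4 hK
  obtain ⟨x, a, hx, hx1, hax⟩ := alt7_seven
  have hΓ : Bnu (chevRel certF4 K) (twF4 hK).P1 keysTF4 := by
    refine bnu_twisted (twF4 hK) keysTF4_ok.1 fun k => ⟨wordsTF4.getD (k : ℕ) [], ?_, fun r => ?_⟩
    · have hk : (k : ℕ) < wordsTF4.length := k.2
      rw [List.getD_eq_getElem _ _ hk]
      exact List.getElem_mem _
    · exact (twF4 hK).nJ_apply (orbListF4 hK) rfl wordsTF4_ok k r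
  refine not_altSect_one certF4 hΓ ?_ ?_ x a hx hx1 hax
    (h.map (f := (Subgroup.subgroupOfEquivOfLe twF4_le).symm.toMonoidHom) (MulEquiv.injective _))
  · have h1 := card_inf_mul_index (chevRel certF4 K).HS (twF4 hK).P1
    rw [card_torusF4 hK, show Nat.card ↥(twF4 hK).P1 = Nat.card ↥(twistedF4 K (2 ^ m)) from
      Nat.card_congr (Subgroup.subgroupOfEquivOfLe twF4_le).toEquiv, card_twF4 hK] at h1
    obtain ⟨q, hq⟩ : ∃ q, q = 2 ^ (2 * m + 1) := ⟨_, rfl⟩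
    rw [← hq] at h1
    have hq1 : 1 < q := hq ▸ Nat.one_lt_two_pow (by omega)
    have e4 : q ^ 4 - 1 = (q - 1) * ((q + 1) * (q ^ 2 + 1)) := by
      apply Int.ofNat.inj
      show ((_ : ℕ) : ℤ) = ((_ : ℕ) : ℤ)
      push_cast [Nat.cast_sub hq1.le, Nat.cast_sub (Nat.one_le_pow 4 q (by omega))]
      ring
    rw [e4] at h1
    have h2 : (q - 1) ^ 2 * ((chevRel certF4 K).HS.subgroupOf (twF4 hK).P1).index =
        (q - 1) ^ 2 * (q ^ 12 * ((q ^ 3 + 1) * ((q + 1) * ((q ^ 2 + 1) * (q ^ 6 + 1))))) := by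
      rw [h1]; ring
    rw [Nat.eq_of_mul_eq_mul_left (pow_pos (by omega) 2) h2]
    intro hd
    have hcases := two_pow_mod_seven (2 * m + 1)
    rw [← hq] at hcases
    rw [Nat.dvd_iff_mod_eq_zero, Nat.mul_mod, Nat.pow_mod, Nat.mul_mod (q ^ 3 + 1), Nat.mul_mod (q + 1),
      Nat.mul_mod (q ^ 2 + 1), Nat.add_mod (q ^ 3), Nat.add_mod q, Nat.add_mod (q ^ 2), Nat.add_mod (q ^ 6),
      Nat.pow_mod q 3, Nat.pow_mod q 2, Nat.pow_mod q 6] at hd
    rcases hcases with h | h | h <;> simp [h] at hd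
  · exact fun L' hL' => noEigen_of_chk4 (by decide +kernel) (List.all_eq_true.1 keysTF4_ok.2 L' hL')

end TwF4

end CfsgLib.Known.AltTorus
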